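import Cfsg.Agent.Lib.BC78.RealOdd.Tools

/-!
# Odd degree characters of solvable groups and linear characters of a Sylow `2`-subgroup

With `b = true` characters are required to be real; with `b = false` the Sylow `2`-subgroup is
required to be its own normalizer.
-/

set_option autoImplicit false

namespace Cfsg.Agent.Lib.BC78.RealOdd

open scoped ComplexConjugate Pointwise
open Cfsg.Agent.Lib.Induced.Basic Cfsg.Agent.Lib.Characters.Basic Cfsg.Agent.Lib.Characters
open Cfsg.Agent.Lib.BC78.CoprimeFix Cfsg.Agent.Lib.BC78.Clifford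

universe u

variable {G : Type u} [Group G] [Fintype G]

/-- Realness, required when `b` holds. -/
def Ok (b : Bool) {A : Type u} (f : A → ℂ) : Prop := b = true → ∀ a, conj (f a) = f a

/-- The self-normalizing hypothesis, required when `b` fails. -/
def Hyp (b : Bool) (P : Sylow 2 G) : Prop :=
  b = false → Subgroup.normalizer ((P : Subgroup G) : Set G) = (P : Subgroup G)

/-- Linear characters of `P` compatible with `μ`. -/
def InR (b : Bool) (P : Sylow 2 G) (V : Subgroup G) (μ : V →* ℂˣ)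
    (η : (P : Subgroup G) →* ℂˣ) : Prop :=
  Ok b (fun x => ((η x : ℂˣ) : ℂ)) ∧
    ∀ (x : (P : Subgroup G)) (v : V), (x : G) = v → η x = μ v

/-- Odd multiplicity on the Sylow subgroup. -/
def Rel (P : Sylow 2 G) (χ : Cfsg.IrrCharacter G) (η : (P : Subgroup G) →* ℂˣ) : Prop :=
  ∃ n : ℕ, Odd n ∧
    Cfsg.classInner ((χ : G → ℂ) ∘ (P : Subgroup G).subtype) (Linear.linChar η) = n

/-- Characters of odd degree over `μ`. -/
def Good (b : Bool) (V : Subgroup G) (μ : V →* ℂˣ) (χ : Cfsg.IrrCharacter G) : Prop :=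
  ¬ 2 ∣ deg χ ∧ Ok b (χ : G → ℂ) ∧
    Cfsg.classInner ((χ : G → ℂ) ∘ V.subtype) (Linear.linChar μ) ≠ 0

/-- Conjugate linear characters of `P`. -/
def ConjBy (P : Sylow 2 G) (n : G) (η η' : (P : Subgroup G) →* ℂˣ) : Prop :=
  ∀ x y : (P : Subgroup G), (y : G) = n * x * n⁻¹ → η' x = η y

/-- The parametrization over `μ`. -/
structure Claim (b : Bool) (P : Sylow 2 G) (V : Subgroup G) (μ : V →* ℂˣ) : Prop where
  exists_char : ∀ η, InR b P V μ η → ∃ χ, Good b V μ χ ∧ Rel P χ η
  unique : ∀ η, InR b P V μ η → ∀ χ χ', Good b V μ χ → Good b V μ χ' → Rel P χ η → Rel P χ' η →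
    χ = χ'
  conj_of_rel : ∀ χ, Good b V μ χ → ∀ η η', InR b P V μ η → InR b P V μ η' → Rel P χ η →
    Rel P χ η' → ∃ n ∈ Subgroup.normalizer ((P : Subgroup G) : Set G), ConjBy P n η η'

theorem Rel.ne_zero {P : Sylow 2 G} {χ : Cfsg.IrrCharacter G} {η : (P : Subgroup G) →* ℂˣ}
    (h : Rel P χ η) :
    Cfsg.classInner ((χ : G → ℂ) ∘ (P : Subgroup G).subtype) (Linear.linChar η) ≠ 0 := by
  obtain ⟨n, hn, h⟩ := h
  rw [h, Nat.cast_ne_zero]
  exact Nat.pos_iff_ne_zero.1 hn.pos

theorem claim_top (b : Bool) (P : Sylow 2 G) (μ : (⊤ : Subgroup G) →* ℂˣ)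
    (hok : Ok b (fun v => ((μ v : ℂˣ) : ℂ))) : Claim b P ⊤ μ := by
  classical
  let μG : G →* ℂˣ := μ.comp Subgroup.topEquiv.symm.toMonoidHom
  have hμG : ∀ v : (⊤ : Subgroup G), μG v = μ v := fun v => rfl
  have huniq : ∀ χ, Good b ⊤ μ χ → χ = Linear.linChar μG := fun χ hχ => by
    by_contra hne
    apply hχ.2.2
    have h := inner_equiv (Subgroup.topEquiv (G := G)) (χ : G → ℂ) (Linear.linChar μG : G → ℂ)
    rw [classInner_irr_of_ne hne] at h
    exact h
  have hη : ∀ η, InR b P ⊤ μ η → η = μG.comp (P : Subgroup G).subtype := fun η h =>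
    MonoidHom.ext fun x => h.2 x ⟨x, Subgroup.mem_top _⟩ rfl
  refine ⟨fun η hR => ⟨Linear.linChar μG, ⟨?_, ?_, ?_⟩, 1, odd_one, ?_⟩,
    fun η _ χ χ' h h' _ _ => (huniq χ h).trans (huniq χ' h').symm,
    fun χ _ η η' h h' _ _ => ⟨1, one_mem _, fun x y hxy => ?_⟩⟩
  · rw [deg_linChar]; norm_num
  · exact fun hb g => hok hb ⟨g, Subgroup.mem_top g⟩
  · have : ((Linear.linChar μG : G → ℂ)) ∘ (⊤ : Subgroup G).subtype =
        (Linear.linChar μ : (⊤ : Subgroup G) → ℂ) := rfl
    rw [this, classInner_self_irr]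
    exact one_ne_zero
  · rw [linChar_comp, ← hη η hR, classInner_self_irr, Nat.cast_one]
  · rw [hη η h, hη η' h', show y = x from Subtype.ext (by simpa using hxy)]

/-- The correspondent carries the multiplicities of the compatible linear characters. -/
theorem mult_eq (P : Sylow 2 G) {V : Subgroup G} [hV : V.Normal] {μ : V →* ℂˣ} (hμ : IsTwo μ)
    {T : Subgroup G} (hPT : (P : Subgroup G) ≤ T) (hVT : V ≤ T) {χ : Cfsg.IrrCharacter G}
    (hχ : Cfsg.classInner ((χ : G → ℂ) ∘ V.subtype) (Linear.linChar μ) ≠ 0)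
    {ψ : Cfsg.IrrCharacter T}
    (hψ1 : Cfsg.classInner ((χ : G → ℂ) ∘ T.subtype) ψ = 1)
    (huniq : ∀ φ : Cfsg.IrrCharacter T, Cfsg.classInner ((χ : G → ℂ) ∘ T.subtype) φ ≠ 0 →
      Cfsg.classInner ((φ : T → ℂ) ∘ Subgroup.inclusion hVT) (Linear.linChar μ) ≠ 0 → φ = ψ)
    (η : (P : Subgroup G) →* ℂˣ)
    (hη : ∀ (x : (P : Subgroup G)) (v : V), (x : G) = v → η x = μ v) :
    Cfsg.classInner ((χ : G → ℂ) ∘ (P : Subgroup G).subtype) (Linear.linChar η) =
      Cfsg.classInner ((ψ : T → ℂ) ∘ Subgroup.inclusion hPT) (Linear.linChar η) := by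
  classical
  haveI := Fintype.ofFinite (Cfsg.IrrCharacter T)
  have hd := character_eq_finsum (isCharacter_comp T.subtype (isCharacter_irr χ))
  rw [finsum_eq_sum_of_fintype] at hd
  have e : (χ : G → ℂ) ∘ (P : Subgroup G).subtype = ∑ φ : Cfsg.IrrCharacter T,
      Cfsg.classInner ((χ : G → ℂ) ∘ T.subtype) φ • ((φ : T → ℂ) ∘ Subgroup.inclusion hPT) := by
    funext x
    have := congrFun hd (Subgroup.inclusion hPT x)
    simpa [Finset.sum_apply] using this
  rw [e, classInner_sum_left, Finset.sum_eq_single ψ]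
  · rw [classInner_smul_left, hψ1, one_mul]
  · intro φ _ hne
    rw [classInner_smul_left]
    by_contra h0
    obtain ⟨h1, h2⟩ := mul_ne_zero_iff.1 h0
    apply hne
    let D : Subgroup G := (P : Subgroup G) ⊓ V
    let jP : D →* (P : Subgroup G) := Subgroup.inclusion inf_le_left
    let jV : D →* V := Subgroup.inclusion inf_le_right
    have hD : η.comp jP = μ.comp jV := MonoidHom.ext fun d => hη _ _ rfl
    have h3 : Cfsg.classInner (((φ : T → ℂ) ∘ Subgroup.inclusion hPT) ∘ jP)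
        (Linear.linChar (η.comp jP)) ≠ 0 :=
      inner_ne_zero_comp jP (isCharacter_comp _ (isCharacter_irr φ)) (Linear.linChar η)
        (isCharacter_irr _) h2 (by rw [linChar_comp, classInner_self_irr]; exact one_ne_zero)
    have h4 : Cfsg.classInner (((φ : T → ℂ) ∘ Subgroup.inclusion hVT) ∘ jV)
        (Linear.linChar (μ.comp jV)) ≠ 0 := by rw [← hD]; exact h3
    obtain ⟨θ, hθ1, hθ2⟩ := exists_mid jV (isCharacter_comp _ (isCharacter_irr φ)) h4
    have hθχ : Cfsg.classInner ((χ : G → ℂ) ∘ V.subtype) θ ≠ 0 :=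
      inner_ne_zero_comp (Subgroup.inclusion hVT) (isCharacter_comp T.subtype (isCharacter_irr χ))
        φ (isCharacter_irr θ) h1 hθ1
    obtain ⟨g, hg⟩ := exists_conj_eq V χ (Linear.linChar μ) θ hχ hθχ
    rw [← linChar_conjHom] at hg
    rw [← hg, linChar_comp] at hθ2
    have heq : conjHom V μ g = μ := by
      refine hom_ext_two P (isTwo_conjHom V hμ g) hμ fun v hv => ?_
      exact DFunLike.congr_fun (inner_lin _ _ hθ2) ⟨v, hv, v.2⟩
    refine huniq φ h1 ?_
    rw [← hg, heq] at hθ1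
    exact hθ1
  · exact fun h => absurd (Finset.mem_univ ψ) h

/-- Reduction to the stabilizer of `μ`. -/
theorem claim_of_stab (b : Bool) (P : Sylow 2 G) {V : Subgroup G} [hV : V.Normal] {μ : V →* ℂˣ}
    (hμ : IsTwo μ) (hfix : IsFix (P : Subgroup G) V μ) (hok : Ok b (fun v => ((μ v : ℂˣ) : ℂ)))
    (T : Subgroup G) (hT : ∀ g, g ∈ T ↔ conjHom V μ g = μ) (hPT : (P : Subgroup G) ≤ T)
    (hVT : V ≤ T)
    (hIH : Claim b (P.subtype hPT) (V.subgroupOf T)
      (μ.comp (Subgroup.subgroupOfEquivOfLe hVT).toMonoidHom)) : Claim b P V μ := by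
  classical
  let iP : (P.subtype hPT : Subgroup T) ≃* (P : Subgroup G) := Subgroup.subgroupOfEquivOfLe hPT
  let iV : V.subgroupOf T ≃* V := Subgroup.subgroupOfEquivOfLe hVT
  let μT := μ.comp iV.toMonoidHom
  have hover : ∀ ψ : Cfsg.IrrCharacter T,
      Cfsg.classInner ((ψ : T → ℂ) ∘ (V.subgroupOf T).subtype) (Linear.linChar μT) =
        Cfsg.classInner ((ψ : T → ℂ) ∘ Subgroup.inclusion hVT) (Linear.linChar μ) :=
    fun ψ => inner_equiv iV ((ψ : T → ℂ) ∘ Subgroup.inclusion hVT) (Linear.linChar μ : V → ℂ)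
  have hidx : ¬ 2 ∣ T.index := fun h =>
    P.not_dvd_index (h.trans (Subgroup.index_dvd_of_le hPT))
  have hdeg : ∀ (χ : Cfsg.IrrCharacter G) (ψ : Cfsg.IrrCharacter T),
      Cfsg.indFun T (ψ : T → ℂ) = χ → deg χ = T.index * deg ψ := fun χ ψ h => by
    have h1 := congrFun h 1
    rw [indFun_one, apply_one_eq_deg, apply_one_eq_deg] at h1
    exact_mod_cast h1.symm
  have key : ∀ χ, Good b V μ χ → ∃ ψ, Good b (V.subgroupOf T) μT ψ ∧
      Cfsg.indFun T (ψ : T → ℂ) = χ ∧
      ∀ η, InR b P V μ η → (Rel P χ η ↔ Rel (P.subtype hPT) ψ (η.comp iP.toMonoidHom)) := by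
    intro χ hχ
    obtain ⟨ψ, hind, hψμ, hψ1, huniq⟩ := correspondent μ T hT hVT χ hχ.2.2
    refine ⟨ψ, ⟨fun h => hχ.1 ?_, fun hb => ?_, ?_⟩, hind, fun η hη => ?_⟩
    · rw [hdeg χ ψ hind]; exact h.mul_left _
    · have hr := hχ.2.1 hb
      have hμr := hok hb
      have h1 : Cfsg.classInner ((χ : G → ℂ) ∘ T.subtype) (Linear.conjChar ψ) ≠ 0 := by
        intro h0
        have : Cfsg.classInner ((χ : G → ℂ) ∘ T.subtype) (ψ : T → ℂ) =
            conj (Cfsg.classInner ((χ : G → ℂ) ∘ T.subtype) (Linear.conjChar ψ)) := by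
          simp only [Cfsg.classInner, Linear.conjChar_apply, map_mul, map_inv₀, map_natCast,
            map_sum, Complex.conj_conj, hr, Function.comp_apply, Subgroup.coe_subtype]
        rw [h0, map_zero, hψ1] at this
        exact one_ne_zero this
      have h2 : Cfsg.classInner ((Linear.conjChar ψ : T → ℂ) ∘ Subgroup.inclusion hVT)
          (Linear.linChar μ) ≠ 0 := by
        intro h0
        apply hψμ
        have : Cfsg.classInner ((ψ : T → ℂ) ∘ Subgroup.inclusion hVT) (Linear.linChar μ : V → ℂ) =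
            conj (Cfsg.classInner ((Linear.conjChar ψ : T → ℂ) ∘ Subgroup.inclusion hVT)
              (Linear.linChar μ : V → ℂ)) := by
          simp only [Cfsg.classInner, Linear.conjChar_apply, Linear.linChar_apply, map_mul, map_inv₀,
            map_natCast, map_sum, Complex.conj_conj, hμr, Function.comp_apply]
        rw [this, h0, map_zero]
      have := huniq _ h1 h2
      intro t
      conv_rhs => rw [← this]
      rw [Linear.conjChar_apply]
    · rw [hover]; exact hψμ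
    · have h := mult_eq P hμ hPT hVT hχ.2.2 hψ1 huniq η hη.2
      have h' := inner_equiv iP ((ψ : T → ℂ) ∘ Subgroup.inclusion hPT) (Linear.linChar η : _ → ℂ)
      rw [← h] at h'
      exact exists_congr fun n => and_congr_right fun _ => by rw [← h']; rfl
  have hR : ∀ η, InR b P V μ η →
      InR b (P.subtype hPT) (V.subgroupOf T) μT (η.comp iP.toMonoidHom) := fun η h =>
    ⟨fun hb x => h.1 hb _, fun x v hxv => h.2 _ _ (congrArg Subtype.val hxv)⟩
  refine ⟨fun η hη => ?_, fun η hη χ χ' hχ hχ' hr hr' => ?_, fun χ hχ η η' hη hη' hr hr' => ?_⟩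
  · obtain ⟨ψ, hψ, hrel⟩ := hIH.exists_char _ (hR η hη)
    have hψμ := hψ.2.2
    rw [hover] at hψμ
    obtain ⟨χ, hχ⟩ := Lib.Clifford.Basic.exists_constituent
      (Lib.Induced.Character.isCharacter_indFun T (isCharacter_irr ψ)) (fun h => by
        have h1 := congrFun h 1
        rw [indFun_one, Pi.zero_apply, mul_eq_zero, Nat.cast_eq_zero] at h1
        exact h1.elim Subgroup.index_ne_zero_of_finite (apply_one_ne_zero ψ))
    have hχψ : Cfsg.classInner ((χ : G → ℂ) ∘ T.subtype) ψ ≠ 0 := by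
      rw [frobenius_reciprocity T _ (isClassFunction_irr χ)] at hχ
      exact Lib.Clifford.Basic.classInner_ne_zero_symm hχ
    have hχμ : Cfsg.classInner ((χ : G → ℂ) ∘ V.subtype) (Linear.linChar μ) ≠ 0 :=
      inner_ne_zero_comp (Subgroup.inclusion hVT) (isCharacter_comp T.subtype (isCharacter_irr χ))
        ψ (isCharacter_irr _) hχψ hψμ
    obtain ⟨ψ₀, hind, -, hψ1, huniq⟩ := correspondent μ T hT hVT χ hχμ
    obtain rfl : ψ = ψ₀ := huniq ψ hχψ hψμ
    refine ⟨χ, ⟨?_, fun hb g => ?_, hχμ⟩, ?_⟩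
    · rw [hdeg χ ψ hind]
      exact fun h => (Nat.prime_two.dvd_mul.1 h).elim hidx hψ.1
    · have hr := hψ.2.1 hb
      rw [← congrFun hind g]
      simp only [Cfsg.indFun, map_mul, map_inv₀, map_natCast, map_sum]
      congr 1
      refine Finset.sum_congr rfl fun x _ => ?_
      simp only [Cfsg.extendByZero]
      by_cases hx : x⁻¹ * g * x ∈ T
      · have e := Subtype.val_injective.extend_apply (ψ : T → ℂ) (0 : G → ℂ) ⟨_, hx⟩
        rw [e]
        exact hr _
      · rw [Function.extend_apply' _ _ _ (fun ⟨a, ha⟩ => hx (ha ▸ a.2))]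
        exact map_zero _
    · obtain ⟨n, hn, hne⟩ := hrel
      refine ⟨n, hn, ?_⟩
      rw [mult_eq P hμ hPT hVT hχμ hψ1 huniq η hη.2, ← hne]
      exact (inner_equiv iP ((ψ : T → ℂ) ∘ Subgroup.inclusion hPT) (Linear.linChar η : _ → ℂ)).symm
  · obtain ⟨ψ, hψ, hind, hk⟩ := key χ hχ
    obtain ⟨ψ', hψ', hind', hk'⟩ := key χ' hχ'
    have := hIH.unique _ (hR η hη) ψ ψ' hψ hψ' ((hk η hη).1 hr) ((hk' η hη).1 hr')
    exact Subtype.ext (by rw [← hind, ← hind', this])
  · obtain ⟨ψ, hψ, -, hk⟩ := key χ hχ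
    obtain ⟨n, hn, hc⟩ :=
      hIH.conj_of_rel ψ hψ _ _ (hR η hη) (hR η' hη') ((hk η hη).1 hr) ((hk η' hη').1 hr')
    refine ⟨(n : G), mem_normalizer_of_conj _ _ fun p hp => ?_, fun x y hxy => ?_⟩
    · have hpT : (⟨p, hPT hp⟩ : T) ∈ (P.subtype hPT : Subgroup T) := hp
      have := (Subgroup.mem_normalizer_iff.1 (inv_mem hn) _).1 hpT
      rw [inv_inv] at this
      exact this
    · exact hc (iP.symm x) (iP.symm y) (Subtype.ext hxy)

/-- Constituents on an elementary abelian layer over an invariant `μ` are linear extensions. -/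
theorem layer_constituent (b : Bool) {V W : Subgroup G} [hV : V.Normal] [W.Normal] (hVW : V ≤ W)
    {μ : V →* ℂˣ} (hμ : IsTwo μ) (hinv : ∀ g, conjHom V μ g = μ)
    {q : ℕ} (hq : q.Prime) (hpow : ∀ w ∈ W, w ^ q ∈ V)
    (hcomm : ∀ a ∈ W, ∀ c ∈ W, a * c * a⁻¹ * c⁻¹ ∈ V)
    {χ : Cfsg.IrrCharacter G} (hχ : Good b V μ χ) (θ : Cfsg.IrrCharacter W)
    (hθ : Cfsg.classInner ((χ : G → ℂ) ∘ W.subtype) θ ≠ 0) :
    ∃ ν : W →* ℂˣ, Linear.linChar ν = θ ∧ ∀ (v : V) (w : W), (w : G) = v → ν w = μ v := by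
  classical
  let V' : Subgroup W := V.subgroupOf W
  haveI : V'.Normal := hV.subgroupOf W
  let iV : V' ≃* V := Subgroup.subgroupOfEquivOfLe hVW
  have hres : ∀ v : V, (θ : W → ℂ) (Subgroup.inclusion hVW v) = (deg θ : ℂ) * (μ v : ℂ) := by
    have hc := isCharacter_comp (Subgroup.inclusion hVW) (isCharacter_irr θ)
    have hd := character_eq_finsum hc
    rw [finsum_eq_single _ (Linear.linChar μ)] at hd
    · have h1 := congrFun hd 1
      rw [Function.comp_apply, map_one, apply_one_eq_deg, Pi.smul_apply, Linear.linChar_apply,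
        map_one, Units.val_one, smul_eq_mul, mul_one] at h1
      intro v
      have := congrFun hd v
      rw [Pi.smul_apply, smul_eq_mul, ← h1] at this
      exact this
    · intro φ hne
      by_cases h0 : Cfsg.classInner ((θ : W → ℂ) ∘ Subgroup.inclusion hVW) φ = 0
      · rw [h0, zero_smul]
      · exfalso
        apply hne
        have h2 : Cfsg.classInner ((χ : G → ℂ) ∘ V.subtype) φ ≠ 0 :=
          inner_ne_zero_comp (Subgroup.inclusion hVW) (isCharacter_comp W.subtype (isCharacter_irr χ))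
            θ (isCharacter_irr φ) hθ h0
        obtain ⟨g, hg⟩ := exists_conj_eq V χ (Linear.linChar μ) φ hχ.2.2 h2
        rw [← hg, ← linChar_conjHom, hinv]
  have hodd : ¬ 2 ∣ deg θ := by
    obtain ⟨e, he⟩ := exists_classInner_nat
      (isCharacter_comp W.subtype (isCharacter_irr χ)) (isCharacter_irr θ)
    have h := Lib.Clifford.Basic.clifford_degree W χ.2 θ hθ
    rw [show Cfsg.classInner (fun n : W => (χ : G → ℂ) n) θ = e from he, apply_one_eq_deg,
      apply_one_eq_deg] at h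
    have h' : deg χ = e * (Lib.Clifford.Basic.inertia W (θ : W → ℂ)).index * deg θ := by
      exact_mod_cast h
    exact fun hd => hχ.1 (h' ▸ hd.mul_left _)
  have h1 : deg θ = 1 := deg_eq_one_of_layer V' (μ.comp iV.toMonoidHom)
    (fun v => hμ (iV v)) θ hq (fun w => hpow w w.2) (fun a c => hcomm a a.2 c c.2)
    (fun v => hres (iV v)) (fun _ => hodd)
  obtain ⟨ν, hν⟩ := exists_lin θ h1
  refine ⟨ν, hν, fun v w hvw => Units.ext ?_⟩
  have := hres v
  rw [h1, Nat.cast_one, one_mul, show Subgroup.inclusion hVW v = w from Subtype.ext hvw.symm, ← hν,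
    Linear.linChar_apply] at this
  exact this

/-- Fixed constituents on a layer have values of `2`-power order. -/
theorem layer_isTwo (b : Bool) (P : Sylow 2 G) (hb : Hyp b P) {V W : Subgroup G} [hV : V.Normal]
    [hW : W.Normal] (hVW : V ≤ W) {μ : V →* ℂˣ} (hμ : IsTwo μ)
    {q : ℕ} (hq : q.Prime) (hpow : ∀ w ∈ W, w ^ q ∈ V)
    {χ : Cfsg.IrrCharacter G} (hχ : Good b V μ χ) (ν : W →* ℂˣ)
    (hext : ∀ (v : V) (w : W), (w : G) = v → ν w = μ v)
    (hν : Cfsg.classInner ((χ : G → ℂ) ∘ W.subtype) (Linear.linChar ν) ≠ 0)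
    (hfix : IsFix (P : Subgroup G) W ν) : IsTwo ν ∧ Ok b (fun w => ((ν w : ℂˣ) : ℂ)) := by
  classical
  haveI : Fact (Nat.Prime 2) := ⟨Nat.prime_two⟩
  have hok : Ok b (fun w => ((ν w : ℂˣ) : ℂ)) := fun h => real_of_fixed P χ (hχ.2.1 h) ν hfix hν
  refine ⟨?_, hok⟩
  rcases b.eq_false_or_eq_true with hb' | hb'
  · exact isTwo_of_sq fun w => (sq_eq_one_iff_real ν w).2 (hok hb' w)
  rcases hq.eq_two_or_odd' with h2 | hodd
  · subst h2
    intro w
    obtain ⟨k, hk⟩ := hμ ⟨_, hpow w w.2⟩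
    refine ⟨k + 1, ?_⟩
    rw [pow_succ', pow_mul, ← map_pow]
    rw [← hext ⟨_, hpow w w.2⟩ (w ^ 2) (by simp)] at hk
    exact hk
  -- the odd case: a fixed character of the quotient layer is trivial
  have hPN := hb hb'
  set K := Nat.card G with hK
  have hμK : ∀ v : V, μ v ^ 2 ^ K = 1 := fun v => by
    obtain ⟨k, hk⟩ := hμ v
    obtain ⟨j, -, hj⟩ := (Nat.dvd_prime_pow Nat.prime_two).1 (orderOf_dvd_of_pow_eq_one hk)
    have h1 : orderOf (μ v) ∣ K := (orderOf_map_dvd μ v).trans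
      ((orderOf_dvd_natCard v).trans (Subgroup.card_subgroup_dvd_card V))
    rw [hj] at h1
    rw [← orderOf_dvd_iff_pow_eq_one, hj]
    exact pow_dvd_pow 2 (le_trans Nat.lt_two_pow_self.le (Nat.le_of_dvd Nat.card_pos h1))
  intro w₀
  refine ⟨K, ?_⟩
  let π := QuotientGroup.mk' V
  let Wb : Subgroup (G ⧸ V) := W.map π
  haveI : Wb.Normal := hW.map π (QuotientGroup.mk'_surjective V)
  let f : W →* Wb := π.subgroupMap W
  have hf : Function.Surjective f := π.subgroupMap_surjective W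
  let α : W →* ℂˣ := (powMonoidHom (2 ^ K) : ℂˣ →* ℂˣ).comp ν
  have hker : f.ker ≤ α.ker := by
    intro w hw
    have hwV : (w : G) ∈ V := (QuotientGroup.eq_one_iff (w : G)).1 (congrArg Subtype.val hw)
    change ν w ^ 2 ^ K = 1
    rw [hext ⟨w, hwV⟩ w rfl, hμK]
  let αb : Wb →* ℂˣ := f.liftOfSurjective hf ⟨α, hker⟩
  have hαb : ∀ w, αb (f w) = α w := fun w => MonoidHom.liftOfRightInverse_comp_apply f _ _ ⟨α, hker⟩ w
  let Pb : Subgroup (G ⧸ V) := (P : Subgroup G).map π
  have hPb : IsPGroup 2 Pb := P.isPGroup'.map π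
  have hC : Wb ⊓ Subgroup.centralizer (Pb : Set (G ⧸ V)) = ⊥ := by
    rw [eq_bot_iff]
    rintro _ ⟨⟨c, hc, rfl⟩, hcC⟩
    let H : Subgroup G := V ⊔ (P : Subgroup G)
    obtain ⟨t, ht, htn⟩ := exists_mem_normalizer_of_le P H le_sup_right c fun x hx => by
      have h1 : π x * π c = π c * π x :=
        Subgroup.mem_centralizer_iff.1 hcC (π x) ⟨x, hx, rfl⟩
      have h2 : π (c⁻¹ * x * c * x⁻¹) = 1 := by
        rw [map_mul, map_mul, map_mul, map_inv, map_inv, mul_assoc (π c)⁻¹, h1]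
        group
      have h3 : c⁻¹ * x * c * x⁻¹ ∈ V := (QuotientGroup.eq_one_iff _).1 h2
      have := H.mul_mem (Subgroup.mem_sup_left h3) (Subgroup.mem_sup_right hx)
      simpa [mul_assoc] using this
    rw [hPN] at htn
    have hcH : c ∈ H := by
      have := H.mul_mem (Subgroup.mem_sup_right htn) ht
      simpa using this
    rw [← SetLike.mem_coe, Subgroup.normal_mul] at hcH
    obtain ⟨v, hv, p, hp, hvp⟩ := Set.mem_mul.1 hcH
    have hpW : p ∈ W := by
      have : p = v⁻¹ * c := by rw [← hvp]; group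
      rw [this]
      exact W.mul_mem (W.inv_mem (hVW hv)) hc
    obtain ⟨k, hk⟩ := P.isPGroup' ⟨p, hp⟩
    have hpV : p ∈ V := by
      obtain ⟨i, -, hi⟩ := (Nat.dvd_prime_pow Nat.prime_two).1
        (orderOf_dvd_of_pow_eq_one (congrArg Subtype.val hk : p ^ 2 ^ k = 1))
      obtain ⟨a, ha⟩ := Nat.exists_mul_mod_eq_one_of_coprime
        (Nat.Coprime.pow_right (i + 1) (Nat.coprime_two_right.2 hodd))
        (Nat.one_lt_two_pow (Nat.succ_ne_zero i))
      have hp1 : (p ^ q) ^ a = p := by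
        rw [← pow_mul, ← pow_mod_orderOf, hi]
        have : (q * a) % 2 ^ i = 1 % 2 ^ i := by
          rw [← Nat.mod_mod_of_dvd (q * a) (pow_dvd_pow 2 (Nat.le_succ i)), ha.2]
        rw [this, ← hi, pow_mod_orderOf, pow_one]
      rw [← hp1]
      exact V.pow_mem (hpow p hpW) a
    rw [Subgroup.mem_bot]
    exact (QuotientGroup.eq_one_iff c).2 (hvp ▸ V.mul_mem hv hpV)
  have hfixb : IsFixed Wb Pb (Linear.linChar αb) := by
    rintro _ ⟨p, hp, rfl⟩
    rw [conjIrr_eq_iff]
    refine MonoidHom.ext fun wb => ?_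
    obtain ⟨w, rfl⟩ := hf wb
    rw [conjHom_apply]
    have : (⟨π p * (f w : G ⧸ V) * (π p)⁻¹, ‹Wb.Normal›.conj_mem _ (f w).2 _⟩ : Wb) =
        f ⟨p * w * p⁻¹, hW.conj_mem w w.2 p⟩ := Subtype.ext (by
      change π p * π (w : G) * (π p)⁻¹ = π (p * w * p⁻¹)
      simp)
    rw [this, hαb, hαb]
    change ν _ ^ 2 ^ K = ν _ ^ 2 ^ K
    rw [← conjHom_apply W ν p w, hfix p hp]
  have h1 := fixed_eq_one Wb Pb hPb hC (Linear.linChar αb) hfixb (by rw [deg_linChar]; norm_num)
  have h2 := congrFun (congrArg Subtype.val h1) (f w₀)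
  rw [oneChar_apply, Linear.linChar_apply, hαb] at h2
  exact Units.ext h2

/-- The step along an elementary abelian layer. -/
theorem claim_step (b : Bool) (P : Sylow 2 G) (hb : Hyp b P) {V W : Subgroup G} [hV : V.Normal]
    [hW : W.Normal] (hVW : V ≤ W) {μ : V →* ℂˣ} (hμ : IsTwo μ) (hinv : ∀ g, conjHom V μ g = μ)
    (hok : Ok b (fun v => ((μ v : ℂˣ) : ℂ)))
    {q : ℕ} (hq : q.Prime) (hpow : ∀ w ∈ W, w ^ q ∈ V)
    (hcomm : ∀ a ∈ W, ∀ c ∈ W, a * c * a⁻¹ * c⁻¹ ∈ V)
    (hIH : ∀ ν : W →* ℂˣ, IsTwo ν → IsFix (P : Subgroup G) W ν →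
      Ok b (fun w => ((ν w : ℂˣ) : ℂ)) → Claim b P W ν) : Claim b P V μ := by
  classical
  haveI : Fact (Nat.Prime 2) := ⟨Nat.prime_two⟩
  haveI : Fact q.Prime := ⟨hq⟩
  have hodd_le : Odd q → ∀ w ∈ W, w ∈ (P : Subgroup G) → w ∈ V := by
    intro hodd w hw hwP
    obtain ⟨k, hk⟩ := P.isPGroup' ⟨w, hwP⟩
    have h1 : ((w : G) : G ⧸ V) ^ q = 1 := by
      rw [← QuotientGroup.mk_pow, QuotientGroup.eq_one_iff]; exact hpow w hw
    have h2 : ((w : G) : G ⧸ V) ^ 2 ^ k = 1 := by
      rw [← QuotientGroup.mk_pow, show w ^ 2 ^ k = 1 from congrArg Subtype.val hk]; rfl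
    have h3 := pow_gcd_eq_one.2 ⟨h1, h2⟩
    rw [(Nat.Coprime.pow_right k (Nat.coprime_two_right.2 hodd)).gcd_eq_one, pow_one] at h3
    exact (QuotientGroup.eq_one_iff w).1 h3
  -- the extension attached to a linear character of the Sylow subgroup
  have hext : ∀ η, InR b P V μ η → ∃ ν : W →* ℂˣ, IsTwo ν ∧ Ok b (fun w => ((ν w : ℂˣ) : ℂ)) ∧
      IsFix (P : Subgroup G) W ν ∧ InR b P W ν η ∧
      ∀ (v : V) (w : W), (w : G) = v → ν w = μ v := by
    intro η hη
    -- a subgroup covering the layer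
    obtain ⟨Q⟩ : Nonempty (Sylow q W) := inferInstance
    let S : Subgroup G := if q = 2 then (P : Subgroup G) ⊓ W else (Q : Subgroup W).map W.subtype
    have hSW : S ≤ W := by
      by_cases h2 : q = 2
      · simp [S, h2]
      · simp only [S, if_neg h2]; exact Subgroup.map_subtype_le _
    have hSsyl : ∃ R : Sylow q W, (R : Subgroup W).map W.subtype = S := by
      by_cases h2 : q = 2
      · subst h2
        simp only [S, if_true]
        exact Lib.PLocal.exists_sylow_inf P W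
      · exact ⟨Q, by simp only [S, if_neg h2]⟩
    have hcov : W ≤ V ⊔ S := by
      obtain ⟨R, hR⟩ := hSsyl
      intro w hw
      have : (⟨w, hw⟩ : W) ∈ V.subgroupOf W ⊔ (R : Subgroup W) := by
        haveI : (V.subgroupOf W).Normal := hV.subgroupOf W
        have h1 : ((V.subgroupOf W) ⊔ (R : Subgroup W)).index ∣ (R : Subgroup W).index :=
          Subgroup.index_dvd_of_le le_sup_right
        have h2 : ((V.subgroupOf W) ⊔ (R : Subgroup W)).index ∣ (V.subgroupOf W).index :=
          Subgroup.index_dvd_of_le le_sup_left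
        obtain ⟨j, hj⟩ : ∃ j, (V.subgroupOf W).index = q ^ j := by
          rw [Subgroup.index_eq_card]
          exact IsPGroup.iff_card.1 fun x => by
            obtain ⟨y, rfl⟩ := QuotientGroup.mk_surjective x
            exact ⟨1, by rw [pow_one, ← QuotientGroup.mk_pow, QuotientGroup.eq_one_iff]
                         exact hpow y y.2⟩
        rw [hj] at h2
        have h3 := Nat.eq_one_of_dvd_coprimes
          (Nat.Coprime.pow_left j (hq.coprime_iff_not_dvd.2 R.not_dvd_index)) h2 h1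
        rw [Subgroup.index_eq_one.1 h3]
        exact Subgroup.mem_top _
      have h4 := Subgroup.mem_map_of_mem W.subtype this
      rw [Subgroup.map_sup, hR, Subgroup.subgroupOf_map_subtype, inf_of_le_left hVW] at h4
      exact h4
    let σ : S →* ℂˣ := if h2 : q = 2 then η.comp (Subgroup.inclusion (show S ≤ (P : Subgroup G) by
      simp [S, h2])) else 1
    have hagree : ∀ (v : V) (s : S), (v : G) = s → μ v = σ s := by
      intro v s hvs
      by_cases h2 : q = 2
      · simp only [σ, dif_pos h2, MonoidHom.comp_apply]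
        exact (hη.2 _ v hvs.symm).symm
      · simp only [σ, dif_neg h2, MonoidHom.one_apply]
        obtain ⟨k, hk⟩ := hμ v
        obtain ⟨R, hR⟩ := hSsyl
        obtain ⟨r, hr, hrs⟩ := (by rw [hR]; exact s.2 : (s : G) ∈ (R : Subgroup W).map W.subtype)
        obtain ⟨j, hj⟩ := R.isPGroup' ⟨r, hr⟩
        have hvq : v ^ q ^ j = 1 := by
          apply Subtype.ext
          rw [Subgroup.coe_pow, hvs, ← hrs]
          exact congrArg (fun x : (R : Subgroup W) => ((x : W) : G)) hj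
        exact eq_one_of_two_odd ((hq.eq_two_or_odd'.resolve_left h2).pow) hk
          (by rw [← map_pow, hvq, map_one])
    obtain ⟨ν, hν⟩ := glue V W S hVW hSW hcov μ σ (fun s _ v => by
      have := DFunLike.congr_fun (hinv s) v
      rwa [conjHom_apply] at this) hagree
    have hνV : ∀ (v : V) (w : W), (w : G) = v → ν w = μ v := fun v w h => by
      rw [hν v 1 w (by simpa using h), map_one, mul_one]
    have hσ2 : ∀ s, ∃ k, σ s ^ 2 ^ k = 1 := by
      intro s
      by_cases h2 : q = 2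
      · simp only [σ, dif_pos h2, MonoidHom.comp_apply]
        obtain ⟨k, hk⟩ := P.isPGroup' (Subgroup.inclusion (show S ≤ (P : Subgroup G) by
          simp [S, h2]) s)
        exact ⟨k, by rw [← map_pow, hk, map_one]⟩
      · exact ⟨0, by simp [σ, h2]⟩
    have hdec : ∀ w : W, ∃ (v : V) (s : S), (w : G) = v * s := fun w => by
      obtain ⟨v, hv, s, hs, h⟩ := Set.mem_mul.1
        (by rw [← Subgroup.normal_mul]; exact hcov w.2 : (w : G) ∈ (V : Set G) * (S : Set G))
      exact ⟨⟨v, hv⟩, ⟨s, hs⟩, h.symm⟩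
    have hν2 : IsTwo ν := fun w => by
      obtain ⟨v, s, h⟩ := hdec w
      obtain ⟨k, hk⟩ := hμ v
      obtain ⟨k', hk'⟩ := hσ2 s
      refine ⟨k + k', ?_⟩
      rw [hν v s w h, mul_pow, pow_add, pow_mul (μ v), hk, one_pow, mul_comm (2 ^ k),
        pow_mul (σ s), hk', one_pow, mul_one]
    have hνok : Ok b (fun w => ((ν w : ℂˣ) : ℂ)) := by
      intro hb' w
      obtain ⟨v, s, h⟩ := hdec w
      simp only [hν v s w h, Units.val_mul, map_mul]
      have h1 := hok hb' v
      have h2 : conj ((σ s : ℂˣ) : ℂ) = ((σ s : ℂˣ) : ℂ) := by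
        by_cases h2 : q = 2
        · simp only [σ, dif_pos h2, MonoidHom.comp_apply]; exact hη.1 hb' _
        · simp [σ, h2]
      rw [show conj ((μ v : ℂˣ) : ℂ) = ((μ v : ℂˣ) : ℂ) from h1, h2]
    have hνη : ∀ (x : (P : Subgroup G)) (w : W), (x : G) = w → η x = ν w := by
      intro x w hxw
      by_cases h2 : q = 2
      · have hs : (w : G) ∈ S := by simp only [S, if_pos h2]; exact ⟨hxw ▸ x.2, w.2⟩
        rw [hν 1 ⟨w, hs⟩ w (by simp), map_one, one_mul]
        simp only [σ, dif_pos h2, MonoidHom.comp_apply]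
        exact congrArg η (Subtype.ext hxw)
      · have hwV := hodd_le (hq.eq_two_or_odd'.resolve_left h2) w w.2 (hxw ▸ x.2)
        rw [hνV ⟨w, hwV⟩ w rfl]
        exact hη.2 x _ hxw
    refine ⟨ν, hν2, hνok, fun p hp => ?_, ⟨hη.1, hνη⟩, hνV⟩
    refine hom_ext_two P (isTwo_conjHom W hν2 p) hν2 fun w hw => ?_
    have hpw : p * w * p⁻¹ ∈ (P : Subgroup G) := mul_mem (mul_mem hp hw) (inv_mem hp)
    rw [conjHom_apply, ← hνη ⟨_, hpw⟩ _ rfl, ← hνη ⟨w, hw⟩ w rfl,
      show (⟨p * w * p⁻¹, hpw⟩ : (P : Subgroup G)) = ⟨p, hp⟩ * ⟨w, hw⟩ * ⟨p, hp⟩⁻¹ from rfl,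
      map_mul, map_mul, map_inv, mul_inv_cancel_comm]
  have hover : ∀ χ, Good b V μ χ → ∀ η, InR b P V μ η → Rel P χ η → ∀ ν : W →* ℂˣ, IsTwo ν →
      InR b P W ν η → (∀ (v : V) (w : W), (w : G) = v → ν w = μ v) →
      Cfsg.classInner ((χ : G → ℂ) ∘ W.subtype) (Linear.linChar ν) ≠ 0 := by
    intro χ hχ η hη hr ν hν2 hνη hνV
    have hq2 : ∀ θ : W →* ℂˣ, (∀ (v : V) (w : W), (w : G) = v → θ w = μ v) → q = 2 → IsTwo θ := by
      intro θ h h2 w
      subst h2
      obtain ⟨k, hk⟩ := hμ ⟨_, hpow w w.2⟩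
      refine ⟨k + 1, ?_⟩
      rw [pow_succ', pow_mul, ← map_pow]
      rw [← h ⟨_, hpow w w.2⟩ (w ^ 2) (by simp)] at hk
      exact hk
    rcases hq.eq_two_or_odd' with h2 | hodd
    · let D : Subgroup G := (P : Subgroup G) ⊓ W
      let jP : D →* (P : Subgroup G) := Subgroup.inclusion inf_le_left
      let jW : D →* W := Subgroup.inclusion inf_le_right
      have hD : η.comp jP = ν.comp jW := MonoidHom.ext fun d => hνη.2 _ _ rfl
      have h3 := inner_ne_zero_comp jP (isCharacter_comp (P : Subgroup G).subtype (isCharacter_irr χ))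
        (Linear.linChar η) (isCharacter_irr (Linear.linChar (η.comp jP))) hr.ne_zero
        (by rw [linChar_comp, classInner_self_irr]; exact one_ne_zero)
      rw [hD] at h3
      obtain ⟨θ, hθ1, hθ2⟩ := exists_mid jW (isCharacter_comp W.subtype (isCharacter_irr χ))
        (φ := (Linear.linChar (ν.comp jW) : D → ℂ)) h3
      obtain ⟨θh, rfl, hθV⟩ := layer_constituent b hVW hμ hinv hq hpow hcomm hχ θ hθ1
      rw [linChar_comp] at hθ2
      have : θh = ν := hom_ext_two P (hq2 θh hθV h2) hν2 fun w hw =>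
        DFunLike.congr_fun (inner_lin _ _ hθ2) ⟨w, hw, w.2⟩
      exact this ▸ hθ1
    · obtain ⟨θ, hθfix, -, hθ1⟩ :=
        exists_fixed_constituent W (P : Subgroup G) P.isPGroup' χ hχ.1
      obtain ⟨θh, rfl, hθV⟩ := layer_constituent b hVW hμ hinv hq hpow hcomm hχ θ hθ1
      obtain ⟨hθ2, -⟩ := layer_isTwo b P hb hVW hμ hq hpow hχ θh hθV hθ1
        (fun p hp => (conjIrr_eq_iff θh θh p).1 (hθfix p hp))
      have : θh = ν := hom_ext_two P hθ2 hν2 fun w hw => by
        have hwV := hodd_le hodd w w.2 hw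
        rw [hθV ⟨w, hwV⟩ w rfl, hνV ⟨w, hwV⟩ w rfl]
      exact this ▸ hθ1
  refine ⟨fun η hη => ?_, fun η hη χ χ' hχ hχ' hr hr' => ?_, fun χ hχ η η' hη hη' hr hr' => ?_⟩
  · obtain ⟨ν, hν2, hνok, hνfix, hνη, hνV⟩ := hext η hη
    obtain ⟨χ, hχ, hr⟩ := (hIH ν hν2 hνfix hνok).exists_char η hνη
    refine ⟨χ, ⟨hχ.1, hχ.2.1, ?_⟩, hr⟩
    have hcomp : ν.comp (Subgroup.inclusion hVW) = μ := MonoidHom.ext fun v => hνV v _ rfl
    exact inner_ne_zero_comp (Subgroup.inclusion hVW)
      (isCharacter_comp W.subtype (isCharacter_irr χ)) (Linear.linChar ν) (isCharacter_irr _)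
      hχ.2.2 (by rw [linChar_comp, hcomp, classInner_self_irr]; exact one_ne_zero)
  · obtain ⟨ν, hν2, hνok, hνfix, hνη, hνV⟩ := hext η hη
    exact (hIH ν hν2 hνfix hνok).unique η hνη χ χ'
      ⟨hχ.1, hχ.2.1, hover χ hχ η hη hr ν hν2 hνη hνV⟩
      ⟨hχ'.1, hχ'.2.1, hover χ' hχ' η hη hr' ν hν2 hνη hνV⟩ hr hr'
  · obtain ⟨ν, hν2, hνok, hνfix, hνη, hνV⟩ := hext η hη
    obtain ⟨ν', hν2', hνok', hνfix', hνη', hνV'⟩ := hext η' hη'
    have h1 := hover χ hχ η hη hr ν hν2 hνη hνV
    have h1' := hover χ hχ η' hη' hr' ν' hν2' hνη' hνV'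
    obtain ⟨g, hg⟩ := exists_conj_eq W χ (Linear.linChar ν) (Linear.linChar ν') h1 h1'
    obtain ⟨n, hn, hne⟩ := exists_normalizer_conj P (Linear.linChar ν) (Linear.linChar ν')
      (fun p hp => (conjIrr_eq_iff ν ν p).2 (hνfix p hp))
      (fun p hp => (conjIrr_eq_iff ν' ν' p).2 (hνfix' p hp)) hg
    rw [conjIrr_eq_iff] at hne
    let c : (P : Subgroup G) ≃* (P : Subgroup G) :=
      { toFun := fun x => ⟨n⁻¹ * x * n, by
          have := (Subgroup.mem_normalizer_iff.1 (inv_mem hn) x).1 x.2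
          rwa [inv_inv] at this⟩
        invFun := fun x => ⟨n * x * n⁻¹, (Subgroup.mem_normalizer_iff.1 hn x).1 x.2⟩
        left_inv := fun x => Subtype.ext (by simp [mul_assoc])
        right_inv := fun x => Subtype.ext (by simp [mul_assoc])
        map_mul' := fun a b => Subtype.ext (by simp [mul_assoc]) }
    have hR'' : InR b P W ν (η'.comp c.toMonoidHom) := by
      refine ⟨fun hb' x => hη'.1 hb' (c x), fun x w hxw => ?_⟩
      have hw : n⁻¹ * (w : G) * n ∈ W := by
        have := hW.conj_mem w w.2 n⁻¹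
        rwa [inv_inv] at this
      change η' (c x) = ν w
      rw [hνη'.2 (c x) ⟨_, hw⟩ (by simp [c, hxw]), ← hne, conjHom_apply]
      exact congrArg ν (Subtype.ext (by simp [mul_assoc]))
    have hr'' : Rel P χ (η'.comp c.toMonoidHom) := by
      obtain ⟨m, hm, hme⟩ := hr'
      refine ⟨m, hm, ?_⟩
      rw [← hme, ← inner_equiv c ((χ : G → ℂ) ∘ (P : Subgroup G).subtype) (Linear.linChar η' : _ → ℂ)]
      congr 1
      funext x
      have := isClassFunction_irr χ (x : G) n⁻¹
      rw [inv_inv] at this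
      exact this.symm
    obtain ⟨m, hm, hmc⟩ := (hIH ν hν2 hνfix hνok).conj_of_rel χ ⟨hχ.1, hχ.2.1, h1⟩ η
      (η'.comp c.toMonoidHom) hνη hR'' hr hr''
    refine ⟨m * n, mul_mem hm hn, fun x y hxy => ?_⟩
    have := hmc (c.symm x) y (by rw [hxy]; simp [c, mul_assoc])
    rw [MonoidHom.comp_apply] at this
    rw [← this]
    exact congrArg η' (c.apply_symm_apply x).symm

/-- A proper normal subgroup of a solvable group lies below an elementary abelian layer. -/
theorem exists_layer [Group.IsSolvable G] (V : Subgroup G) [hV : V.Normal] (hne : V ≠ ⊤) :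
    ∃ (W : Subgroup G) (q : ℕ), W.Normal ∧ V ≤ W ∧ W ≠ V ∧ q.Prime ∧ (∀ w ∈ W, w ^ q ∈ V) ∧
      ∀ a ∈ W, ∀ c ∈ W, a * c * a⁻¹ * c⁻¹ ∈ V := by
  classical
  haveI : Nontrivial (G ⧸ V) := by
    by_contra hnt
    rw [not_nontrivial_iff_subsingleton] at hnt
    apply hne
    rw [eq_top_iff]
    intro g _
    exact (QuotientGroup.eq_one_iff g).1 (Subsingleton.elim _ _)
  obtain ⟨n, hn⟩ := (Group.isSolvable_def (G ⧸ V)).1 inferInstance
  have h0 : derivedSeries (G ⧸ V) 0 ≠ ⊥ := by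
    rw [derivedSeries_zero]; exact top_ne_bot
  obtain ⟨i, hi, hi'⟩ : ∃ i, derivedSeries (G ⧸ V) i ≠ ⊥ ∧ derivedSeries (G ⧸ V) (i + 1) = ⊥ := by
    by_contra hc
    push Not at hc
    have : ∀ j, derivedSeries (G ⧸ V) j ≠ ⊥ := fun j => by
      induction j with
      | zero => exact h0
      | succ j ih => exact hc j ih
    exact this n hn
  set A := derivedSeries (G ⧸ V) i with hA
  haveI hAn : A.Normal := derivedSeries_normal _ _
  have hcomm : ∀ a ∈ A, ∀ c ∈ A, a * c = c * a := by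
    intro a ha c hc
    have : a * c * a⁻¹ * c⁻¹ ∈ derivedSeries (G ⧸ V) (i + 1) := by
      rw [derivedSeries_succ]; exact Subgroup.commutator_mem_commutator ha hc
    rw [hi', Subgroup.mem_bot, mul_inv_eq_one, mul_inv_eq_iff_eq_mul] at this
    exact this
  have hA1 : Nat.card A ≠ 1 := fun h => hi (Subgroup.card_eq_one.1 h)
  obtain ⟨q, hq, hqd⟩ := Nat.exists_prime_and_dvd hA1
  haveI : Fact q.Prime := ⟨hq⟩
  obtain ⟨x, hx⟩ := exists_prime_orderOf_dvd_card' (G := A) q hqd
  let B : Subgroup (G ⧸ V) :=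
    { carrier := {y | y ∈ A ∧ y ^ q = 1}
      one_mem' := ⟨one_mem A, one_pow q⟩
      mul_mem' := fun {a c} ha hc => ⟨mul_mem ha.1 hc.1, by
        rw [(show Commute a c from hcomm a ha.1 c hc.1).mul_pow, ha.2, hc.2, one_mul]⟩
      inv_mem' := fun {a} ha => ⟨inv_mem ha.1, by rw [inv_pow, ha.2, inv_one]⟩ }
  haveI : B.Normal := ⟨fun y hy g => ⟨hAn.conj_mem y hy.1 g, by
    rw [conj_pow, hy.2, mul_one, mul_inv_cancel]⟩⟩
  refine ⟨B.comap (QuotientGroup.mk' V), q, Subgroup.Normal.comap inferInstance _, ?_, ?_, hq,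
    fun w hw => ?_, fun a ha c hc => ?_⟩
  · intro v hv
    change QuotientGroup.mk' V v ∈ B
    rw [show QuotientGroup.mk' V v = 1 from (QuotientGroup.eq_one_iff v).2 hv]
    exact one_mem B
  · intro h
    obtain ⟨g, hg⟩ := QuotientGroup.mk'_surjective V (x : G ⧸ V)
    have hgB : g ∈ B.comap (QuotientGroup.mk' V) := by
      change QuotientGroup.mk' V g ∈ B
      rw [hg]
      exact ⟨x.2, by rw [← Subgroup.coe_pow, ← hx, pow_orderOf_eq_one, Subgroup.coe_one]⟩
    rw [h] at hgB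
    have : x = 1 := Subtype.ext (hg ▸ (QuotientGroup.eq_one_iff g).2 hgB)
    rw [this, orderOf_one] at hx
    exact hq.one_lt.ne hx
  · rw [← QuotientGroup.eq_one_iff, QuotientGroup.mk_pow]
    exact hw.2
  · rw [← QuotientGroup.eq_one_iff]
    have := hcomm _ ha.1 _ hc.1
    change QuotientGroup.mk' V (a * c * a⁻¹ * c⁻¹) = 1
    rw [map_mul, map_mul, map_mul, map_inv, map_inv, this]
    group

omit [Fintype G] in
/-- The parametrization holds for every solvable group. -/
theorem claim (b : Bool) (n : ℕ) :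
    ∀ (G : Type u) [Group G] [Fintype G] [Group.IsSolvable G] (P : Sylow 2 G) (V : Subgroup G)
      [V.Normal] (μ : V →* ℂˣ), Nat.card G = n → Hyp b P → IsTwo μ →
      IsFix (P : Subgroup G) V μ → Ok b (fun v => ((μ v : ℂˣ) : ℂ)) → Claim b P V μ := by
  induction n using Nat.strong_induction_on with
  | _ n ihG =>
    intro G _ _ _ P V hVn μ hn hb
    suffices h : ∀ k, ∀ (V : Subgroup G) [V.Normal] (μ : V →* ℂˣ), V.index = k → IsTwo μ →
        IsFix (P : Subgroup G) V μ → Ok b (fun v => ((μ v : ℂˣ) : ℂ)) → Claim b P V μ from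
      h V.index V μ rfl
    intro k
    induction k using Nat.strong_induction_on with
    | _ k ihV =>
      intro V hV μ hk hμ hfix hok
      let T : Subgroup G :=
        { carrier := {g | conjHom V μ g = μ}
          one_mem' := MonoidHom.ext fun v => by
            rw [conjHom_apply]; exact congrArg μ (Subtype.ext (by simp))
          mul_mem' := fun {a c} ha hc => MonoidHom.ext fun v => by
            have h1 := DFunLike.congr_fun ha ⟨c * v * c⁻¹, hV.conj_mem v v.2 c⟩
            have h2 := DFunLike.congr_fun hc v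
            rw [conjHom_apply] at h1 h2 ⊢
            rw [← h2, ← h1]
            exact congrArg μ (Subtype.ext (by simp [mul_assoc]))
          inv_mem' := fun {a} ha => MonoidHom.ext fun v => by
            have h1 := DFunLike.congr_fun ha ⟨a⁻¹ * v * a⁻¹⁻¹, hV.conj_mem v v.2 a⁻¹⟩
            rw [conjHom_apply] at h1 ⊢
            rw [← h1]
            exact congrArg μ (Subtype.ext (by simp [mul_assoc])) }
      by_cases hT : T = ⊤
      · have hinv : ∀ g, conjHom V μ g = μ := fun g => by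
          have : g ∈ T := hT ▸ Subgroup.mem_top g
          exact this
        by_cases hVt : V = ⊤
        · subst hVt
          exact claim_top b P μ hok
        obtain ⟨W, q, hW, hVW, hWV, hq, hpow, hcomm⟩ := exists_layer V hVt
        refine claim_step b P hb hVW hμ hinv hok hq hpow hcomm fun ν h1 h2 h3 => ?_
        exact ihV W.index (hk ▸ Subgroup.index_strictAnti (lt_of_le_of_ne hVW (Ne.symm hWV))) W ν rfl
          h1 h2 h3
      · have hVT : V ≤ T := fun g hg => MonoidHom.ext fun v => by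
          rw [conjHom_apply, show (⟨g * v * g⁻¹, hV.conj_mem v v.2 g⟩ : V) =
            ⟨g, hg⟩ * v * ⟨g, hg⟩⁻¹ from rfl, map_mul, map_mul, map_inv, mul_inv_cancel_comm]
        refine claim_of_stab b P hμ hfix hok T (fun g => Iff.rfl) hfix hVT ?_
        refine ihG (Nat.card T) (hn ▸ lt_of_le_of_ne (Nat.le_of_dvd Nat.card_pos
            (Subgroup.card_subgroup_dvd_card T)) fun h => hT (Subgroup.eq_top_of_card_eq T h))
          T (P.subtype hfix) (V.subgroupOf T) _ rfl (fun hb' => ?_) (fun v => hμ _) ?_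
          (fun hb' v => hok hb' _)
        · refine le_antisymm (fun t ht => ?_) Subgroup.le_normalizer
          have : (t : G) ∈ Subgroup.normalizer ((P : Subgroup G) : Set G) :=
            mem_normalizer_of_conj _ _ fun p hp => by
              have hpT : (⟨p, hfix p hp⟩ : T) ∈ (P : Subgroup G).subgroupOf T := hp
              have := (Subgroup.mem_normalizer_iff.1 (inv_mem ht) _).1 hpT
              rw [inv_inv] at this
              exact this
          rw [hb hb'] at this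
          exact this
        · intro p hp
          refine MonoidHom.ext fun v => ?_
          have h1 := DFunLike.congr_fun (hfix (p : G) hp) (Subgroup.subgroupOfEquivOfLe hVT v)
          rw [conjHom_apply] at h1 ⊢
          exact (congrArg μ (Subtype.ext rfl)).trans h1

end Cfsg.Agent.Lib.BC78.RealOdd
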