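import Cfsg.Agent.Lib.BC78.Clifford
import Cfsg.Agent.Lib.BC78.CoprimeFix
import Cfsg.Agent.Lib.BC78.Roots
import Cfsg.Agent.Lib.Clifford.Ito
import Cfsg.Agent.Lib.Clifford.Linear
import Cfsg.Agent.Lib.Characters.Linear
import Cfsg.Agent.Lib.PLocal.Thompson

/-!
# Linear characters of normal subgroups with values of 2-power order
-/

set_option autoImplicit false

namespace Cfsg.Agent.Lib.BC78.RealOdd

open scoped ComplexConjugate Pointwise
open Cfsg.Agent.Lib.Induced.Basic Cfsg.Agent.Lib.Characters.Basic Cfsg.Agent.Lib.Characters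
open Cfsg.Agent.Lib.BC78.CoprimeFix

universe u

variable {G : Type u} [Group G]

/-- All values have `2`-power order. -/
def IsTwo {A : Type u} [Group A] (μ : A →* ℂˣ) : Prop := ∀ a, ∃ k, μ a ^ 2 ^ k = 1

theorem isTwo_of_sq {A : Type u} [Group A] {μ : A →* ℂˣ} (h : ∀ a, μ a ^ 2 = 1) : IsTwo μ :=
  fun a => ⟨1, by rw [pow_one]; exact h a⟩

theorem eq_one_of_two_odd {z : ℂˣ} {k m : ℕ} (hm : Odd m) (h2 : z ^ 2 ^ k = 1) (h : z ^ m = 1) :
    z = 1 := by
  have hc : Nat.Coprime (2 ^ k) m := Nat.Coprime.pow_left k (Nat.coprime_two_left.2 hm)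
  have := pow_gcd_eq_one.2 ⟨h2, h⟩
  rwa [hc.gcd_eq_one, pow_one] at this

theorem sq_eq_one_iff_real [Finite G] (η : G →* ℂˣ) (g : G) :
    η g ^ 2 = 1 ↔ conj ((η g : ℂˣ) : ℂ) = ((η g : ℂˣ) : ℂ) := by
  have hn : ‖((η g : ℂˣ) : ℂ)‖ = 1 := by
    refine Complex.norm_eq_one_of_pow_eq_one (n := orderOf g) ?_ (orderOf_pos g).ne'
    rw [← Units.val_pow_eq_pow_val, ← map_pow, pow_orderOf_eq_one, map_one, Units.val_one]
  have h1 : ((η g : ℂˣ) : ℂ) * conj ((η g : ℂˣ) : ℂ) = 1 := by rw [Complex.mul_conj', hn]; simp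
  rw [Units.ext_iff, Units.val_pow_eq_pow_val, Units.val_one]
  constructor
  · intro h
    refine mul_left_cancel₀ (η g).ne_zero (h1.trans ?_)
    rw [← sq, h]
  · intro h
    rw [h] at h1
    rw [sq, h1]

/-- A normal subgroup meets a Sylow subgroup in a Sylow subgroup. -/
theorem exists_conj_mem_inf [Finite G] {p : ℕ} [Fact p.Prime] (P : Sylow p G) (W : Subgroup G)
    [W.Normal] {a : G} (ha : a ∈ W) {k : ℕ} (hk : a ^ p ^ k = 1) :
    ∃ x ∈ W, x * a * x⁻¹ ∈ (P : Subgroup G) ⊓ W := by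
  obtain ⟨R, hR⟩ := Lib.PLocal.exists_sylow_inf P W
  have hz : IsPGroup p (Subgroup.zpowers (⟨a, ha⟩ : W)) := by
    obtain ⟨j, -, hj⟩ := (Nat.dvd_prime_pow (Fact.out : p.Prime)).1
      (orderOf_dvd_of_pow_eq_one (show (⟨a, ha⟩ : W) ^ p ^ k = 1 from Subtype.ext (by simpa using hk)))
    exact IsPGroup.of_card (by rw [Nat.card_zpowers, hj])
  obtain ⟨R', hR'⟩ := hz.exists_le_sylow
  obtain ⟨x, hx⟩ := MulAction.exists_smul_eq W R' R
  refine ⟨x, x.2, ?_⟩
  have hmem : x * ⟨a, ha⟩ * x⁻¹ ∈ (R : Subgroup W) := by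
    rw [← hx, Sylow.coe_subgroup_smul, Subgroup.mem_pointwise_smul_iff_inv_smul_mem,
      ← map_inv, MulAut.smul_def, MulAut.conj_apply, inv_inv]
    simpa [mul_assoc] using hR' (Subgroup.mem_zpowers _)
  rw [← hR]
  exact ⟨_, hmem, rfl⟩

/-- A homomorphism of `2`-power values on a normal subgroup is determined on a Sylow subgroup. -/
theorem hom_ext_two [Finite G] (P : Sylow 2 G) {W : Subgroup G} [W.Normal] {θ θ' : W →* ℂˣ}
    (h : IsTwo θ) (h' : IsTwo θ')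
    (heq : ∀ w : W, (w : G) ∈ (P : Subgroup G) → θ w = θ' w) : θ = θ' := by
  haveI : Fact (Nat.Prime 2) := ⟨Nat.prime_two⟩
  refine MonoidHom.ext fun w => ?_
  obtain ⟨k, hk⟩ := h w
  obtain ⟨k', hk'⟩ := h' w
  obtain ⟨a, m, hm, ham⟩ := Nat.exists_eq_two_pow_mul_odd (orderOf_pos (w : G)).ne'
  have hwm : ((w : G) ^ m) ^ 2 ^ a = 1 := by
    rw [← pow_mul, mul_comm, ← ham, pow_orderOf_eq_one]
  obtain ⟨x, hx, hxP⟩ := exists_conj_mem_inf P W (W.pow_mem w.2 m) hwm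
  have hmeq : θ w ^ m = θ' w ^ m := by
    have key : ∀ f : W →* ℂˣ, f w ^ m = f ⟨x * (w : G) ^ m * x⁻¹, hxP.2⟩ := fun f => by
      rw [show (⟨x * (w : G) ^ m * x⁻¹, hxP.2⟩ : W) = ⟨x, hx⟩ * w ^ m * ⟨x, hx⟩⁻¹ from Subtype.ext rfl,
        map_mul, map_mul, map_inv, map_pow, mul_inv_cancel_comm]
    rw [key θ, key θ']
    exact heq _ hxP.1
  refine div_eq_one.1 (eq_one_of_two_odd (k := k + k') hm ?_ ?_)
  · rw [div_pow, pow_add, pow_mul (θ w), hk, one_pow, mul_comm (2 ^ k), pow_mul (θ' w), hk', one_pow,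
      div_one]
  · rw [div_pow, hmeq, div_self']

/-- Gluing homomorphisms along a normal subgroup. -/
theorem glue (V W S : Subgroup G) [V.Normal] (hVW : V ≤ W) (hSW : S ≤ W) (hW : W ≤ V ⊔ S)
    (μ : V →* ℂˣ) (σ : S →* ℂˣ)
    (hinv : ∀ s ∈ S, ∀ v : V, μ ⟨s * v * s⁻¹, ‹V.Normal›.conj_mem v v.2 s⟩ = μ v)
    (hagree : ∀ (v : V) (s : S), (v : G) = s → μ v = σ s) :
    ∃ θ : W →* ℂˣ, ∀ (v : V) (s : S) (w : W), (w : G) = v * s → θ w = μ v * σ s := by
  have hdec : ∀ w : W, ∃ (v : V) (s : S), (w : G) = v * s := fun w => by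
    obtain ⟨v, hv, s, hs, h⟩ := Set.mem_mul.1
      (by rw [← Subgroup.normal_mul]; exact hW w.2 : (w : G) ∈ (V : Set G) * (S : Set G))
    exact ⟨⟨v, hv⟩, ⟨s, hs⟩, h.symm⟩
  choose v s h using hdec
  have key : ∀ (v₁ : V) (s₁ : S) (w : W), (w : G) = v₁ * s₁ → μ (v w) * σ (s w) = μ v₁ * σ s₁ := by
    intro v₁ s₁ w hw
    have h1 : (((v₁⁻¹ * v w : V)) : G) = ((s₁ * (s w)⁻¹ : S) : G) := by
      push_cast
      rw [inv_mul_eq_iff_eq_mul, ← mul_assoc, eq_mul_inv_iff_mul_eq, ← h w, hw]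
    have h2 := hagree _ _ h1
    rw [map_mul, map_inv, map_mul, map_inv, inv_mul_eq_iff_eq_mul] at h2
    rw [h2]; group
  refine ⟨MonoidHom.mk' (fun w => μ (v w) * σ (s w)) fun a b => ?_,
    fun v₁ s₁ w hw => key v₁ s₁ w hw⟩
  have hc := hinv (s a) (s a).2 (v b)
  rw [key (v a * ⟨s a * v b * (s a : G)⁻¹, ‹V.Normal›.conj_mem _ (v b).2 _⟩) (s a * s b) (a * b)
    (by push_cast; rw [h a, h b]; group), map_mul, map_mul, hc]
  exact mul_mul_mul_comm _ _ _ _

/-- Constituents over an invariant linear character in an elementary abelian layer are linear. -/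
theorem deg_eq_one_of_layer {W : Type u} [Group W] [Fintype W] (V : Subgroup W) [V.Normal] [Fintype V]
    (μ : V →* ℂˣ) (hμ : IsTwo μ) (θ : Cfsg.IrrCharacter W) {q : ℕ} (hq : q.Prime)
    (hpow : ∀ w : W, w ^ q ∈ V) (hcomm : ∀ a b : W, a * b * a⁻¹ * b⁻¹ ∈ V)
    (hover : ∀ v : V, (θ : W → ℂ) v = (deg θ : ℂ) * (μ v : ℂ))
    (hodd : q = 2 → ¬ 2 ∣ deg θ) : deg θ = 1 := by
  haveI : Fact q.Prime := ⟨hq⟩
  obtain ⟨n, ρ, hρ, hρθ⟩ := exists_rep θ
  haveI := hρ
  have hn : Module.finrank ℂ (Fin n → ℂ) = deg θ := by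
    have h := apply_one_eq_deg θ
    rw [← hρθ, Representation.char_one] at h
    exact_mod_cast h
  have hd0 : deg θ ≠ 0 := fun h => apply_one_ne_zero θ (by rw [apply_one_eq_deg, h, Nat.cast_zero])
  have hscal : ∀ v : V, ρ (v : W) = (μ v : ℂ) • (1 : Module.End ℂ (Fin n → ℂ)) := fun v => by
    have hμn : ‖((μ v : ℂˣ) : ℂ)‖ = 1 := by
      refine Complex.norm_eq_one_of_pow_eq_one (n := orderOf v) ?_ (orderOf_pos v).ne'
      rw [← Units.val_pow_eq_pow_val, ← map_pow, pow_orderOf_eq_one, map_one, Units.val_one]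
    have hnorm : ‖ρ.character (v : W)‖ = (Module.finrank ℂ (Fin n → ℂ) : ℝ) := by
      rw [congrFun hρθ, hover, norm_mul, hμn, mul_one, Complex.norm_natCast, hn]
    obtain ⟨c, hc⟩ := (Diag.norm_char_eq_finrank_iff ρ _).1 hnorm
    have h := congrFun hρθ (v : W)
    rw [hover, Representation.character, hc, map_smul, smul_eq_mul, LinearMap.trace_id, hn,
      mul_comm] at h
    rw [hc, mul_left_cancel₀ (Nat.cast_ne_zero.2 hd0) h]
    rfl
  rcases hq.eq_two_or_odd' with h2 | hodd'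
  · subst h2
    have hdvd := Lib.Clifford.Ito.finrank_dvd_index_of_scalar ρ V fun a ha => ⟨_, hscal ⟨a, ha⟩⟩
    rw [hn] at hdvd
    obtain ⟨k, hk⟩ : ∃ k, V.index = 2 ^ k := by
      rw [Subgroup.index_eq_card]
      exact IsPGroup.iff_card.1 fun x => by
        obtain ⟨w, rfl⟩ := QuotientGroup.mk_surjective x
        exact ⟨1, by rw [pow_one, ← QuotientGroup.mk_pow, QuotientGroup.eq_one_iff]; exact hpow w⟩
    obtain ⟨j, -, hj⟩ := (Nat.dvd_prime_pow Nat.prime_two).1 (hk ▸ hdvd)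
    rcases j with - | j
    · simpa using hj
    · exact absurd (hj ▸ dvd_pow_self 2 (Nat.succ_ne_zero j)) (hodd rfl)
  · rw [← hn]
    refine Lib.Clifford.Monomial.finrank_eq_one_of_commute ρ fun a b => ?_
    set c : V := ⟨a * b * a⁻¹ * b⁻¹, hcomm a b⟩ with hc
    set z : ℂ := ((μ c : ℂˣ) : ℂ) with hz
    have hab : ρ a * ρ b = z • (ρ b * ρ a) := by
      rw [hz, ← one_mul (ρ b * ρ a), ← smul_mul_assoc, ← hscal c, ← map_mul, ← map_mul, ← map_mul]
      congr 1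
      simp [hc, mul_assoc]
    have hiter : ∀ i : ℕ, ρ a ^ i * ρ b = z ^ i • (ρ b * ρ a ^ i) := by
      intro i
      induction i with
      | zero => simp
      | succ i ih =>
        rw [pow_succ, mul_assoc, hab, mul_smul_comm, ← mul_assoc, ih, smul_mul_assoc, smul_smul,
          mul_assoc, pow_succ' z]
    have h := hiter q
    rw [← map_pow, hscal ⟨_, hpow a⟩, mul_smul_comm, mul_one, smul_mul_assoc, one_mul, smul_smul] at h
    have hne : ρ b ≠ 0 := by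
      intro h0
      haveI := Lib.Clifford.Rep.nontrivial_of_irreducible ρ
      have h1 : ρ b * ρ b⁻¹ = 1 := by rw [← map_mul, mul_inv_cancel, map_one]
      rw [h0, zero_mul] at h1
      exact zero_ne_one h1
    have hzq := smul_left_injective ℂ hne h
    have hzq' : z ^ q = 1 := (mul_eq_right₀ (Units.ne_zero _)).1 hzq.symm
    obtain ⟨k, hk⟩ := hμ c
    have : μ c = 1 := eq_one_of_two_odd hodd' hk (Units.ext (by rw [Units.val_pow_eq_pow_val]; exact hzq'))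
    rw [hab, hz, this, Units.val_one, one_smul]

/-- The homomorphism of a character of degree one. -/
theorem exists_lin [Finite G] (θ : Cfsg.IrrCharacter G) (h : deg θ = 1) :
    ∃ lam : G →* ℂˣ, Linear.linChar lam = θ := by
  obtain ⟨μ, hμ⟩ := Lib.Clifford.Linear.exists_hom
    (⟨isCharacter_irr θ, by rw [apply_one_eq_deg, h, Nat.cast_one]⟩ :
      Cfsg.IsCharacter G (θ : G → ℂ) ∧ (θ : G → ℂ) 1 = 1)
  exact ⟨μ, Subtype.ext hμ⟩

theorem deg_linChar [Finite G] (η : G →* ℂˣ) : deg (Linear.linChar η) = 1 := by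
  have h := apply_one_eq_deg (Linear.linChar η)
  rw [Linear.linChar_apply, map_one, Units.val_one] at h
  exact_mod_cast h.symm

theorem linChar_comp {A : Type u} [Group A] (f : A →* G) (η : G →* ℂˣ) :
    (Linear.linChar η : G → ℂ) ∘ f = (Linear.linChar (η.comp f) : A → ℂ) := rfl

theorem inner_lin [Fintype G] (a b : G →* ℂˣ)
    (h : Cfsg.classInner (Linear.linChar a : G → ℂ) (Linear.linChar b) ≠ 0) : a = b :=
  Linear.linChar_injective (by_contra fun hne => h (classInner_irr_of_ne hne))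

end Cfsg.Agent.Lib.BC78.RealOdd
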