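import Cfsg.Agent.Lib.BC78.RealOdd.Chain
import Cfsg.Agent.Lib.PGroups.Frattini
import Mathlib.GroupTheory.FiniteAbelian.Duality

/-!
# Counting real characters of odd degree of a solvable group
-/

set_option autoImplicit false

namespace Cfsg.Agent.Lib.BC78.RealOdd

open scoped ComplexConjugate Pointwise
open Cfsg.Agent.Lib.Induced.Basic Cfsg.Agent.Lib.Characters.Basic Cfsg.Agent.Lib.Characters
open Cfsg.Agent.Lib.BC78.CoprimeFix Cfsg.Agent.Lib.BC78.Clifford

universe u

variable {G : Type u} [Group G] [Fintype G]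

theorem ok_iff_im {χ : G → ℂ} : (∀ g, (χ g).im = 0) ↔ ∀ g, conj (χ g) = χ g :=
  forall_congr' fun _ => Complex.conj_eq_iff_im.symm

theorem charDegree_eq_deg (χ : Cfsg.IrrCharacter G) : Cfsg.charDegree (χ : G → ℂ) = deg χ := by
  have h := Cfsg.Agent.Lib.BC78.Roots.charDegree_cast (isCharacter_irr χ)
  rw [apply_one_eq_deg] at h
  exact_mod_cast h

theorem good_bot (b : Bool) (χ : Cfsg.IrrCharacter G) :
    Good b (⊥ : Subgroup G) 1 χ ↔ ¬ 2 ∣ deg χ ∧ Ok b (χ : G → ℂ) := by
  refine ⟨fun h => ⟨h.1, h.2.1⟩, fun h => ⟨h.1, h.2, ?_⟩⟩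
  have e : Cfsg.classInner ((χ : G → ℂ) ∘ (⊥ : Subgroup G).subtype)
      (Linear.linChar (1 : (⊥ : Subgroup G) →* ℂˣ)) = (χ : G → ℂ) 1 := by
    rw [Cfsg.classInner, Nat.card_unique, Fintype.sum_eq_single 1 (fun x hx => absurd (Subsingleton.elim x 1) hx)]
    simp [Linear.linChar_apply]
  rw [e]
  exact apply_one_ne_zero χ

theorem inR_bot (b : Bool) (P : Sylow 2 G) (η : (P : Subgroup G) →* ℂˣ) :
    InR b P ⊥ 1 η ↔ Ok b (fun x => ((η x : ℂˣ) : ℂ)) := by
  refine ⟨fun h => h.1, fun h => ⟨h, fun x v hxv => ?_⟩⟩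
  have : x = 1 := Subtype.ext (by rw [hxv, Subgroup.mem_bot.1 v.2]; rfl)
  rw [this, map_one, MonoidHom.one_apply]

theorem claim_bot [Group.IsSolvable G] (b : Bool) (P : Sylow 2 G) (hb : Hyp b P) :
    Claim b P (⊥ : Subgroup G) 1 :=
  claim b (Nat.card G) G P ⊥ 1 rfl hb (fun _ => ⟨0, by simp⟩)
    (fun p _ => MonoidHom.ext fun v => by simp [conjHom])
    (fun _ v => by simp)

/-- An odd degree character has a linear constituent of odd multiplicity on a Sylow subgroup. -/
theorem exists_rel (b : Bool) (P : Sylow 2 G) {χ : Cfsg.IrrCharacter G} (hodd : ¬ 2 ∣ deg χ)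
    (hok : Ok b (χ : G → ℂ)) :
    ∃ η : (P : Subgroup G) →* ℂˣ, Ok b (fun x => ((η x : ℂˣ) : ℂ)) ∧ Rel P χ η := by
  classical
  haveI : Fact (Nat.Prime 2) := ⟨Nat.prime_two⟩
  haveI := Fintype.ofFinite (Cfsg.IrrCharacter (P : Subgroup G))
  have hc := isCharacter_comp (P : Subgroup G).subtype (isCharacter_irr χ)
  choose a ha using fun φ => exists_classInner_nat hc (isCharacter_irr (G := (P : Subgroup G)) φ)
  have h1 : deg χ = ∑ φ, a φ * deg φ := by
    have := congrFun (character_eq_finsum hc) 1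
    rw [finsum_eq_sum_of_fintype] at this
    simp only [Finset.sum_apply, Pi.smul_apply, smul_eq_mul, apply_one_eq_deg, ha,
      Function.comp_apply, map_one] at this
    exact_mod_cast this
  -- pick an odd term, fixed by conjugation when `b` holds
  obtain ⟨φ, hφ, hφb⟩ : ∃ φ, ¬ 2 ∣ a φ * deg φ ∧ Ok b (φ : ↥(P : Subgroup G) → ℂ) := by
    by_contra hcon
    push Not at hcon
    apply hodd
    rw [h1, ← ZMod.natCast_eq_zero_iff, Nat.cast_sum]
    cases b with
    | false =>
      refine Finset.sum_eq_zero fun φ _ => ?_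
      rw [ZMod.natCast_eq_zero_iff]
      by_contra h
      exact hcon φ h (fun hb => absurd hb Bool.false_ne_true)
    | true =>
      have hinv : ∀ φ : Cfsg.IrrCharacter (P : Subgroup G),
          a (Linear.conjChar φ) * deg (Linear.conjChar φ) = a φ * deg φ := by
        intro φ
        have hd : deg (Linear.conjChar φ) = deg φ := by
          have h := apply_one_eq_deg (Linear.conjChar φ)
          rw [Linear.conjChar_apply, apply_one_eq_deg, map_natCast] at h
          exact_mod_cast h.symm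
        have he : (a (Linear.conjChar φ) : ℂ) = (a φ : ℂ) := by
          rw [← ha, ← map_natCast conj (a φ), ← ha]
          simp only [Cfsg.classInner, Linear.conjChar_apply, map_mul, map_inv₀, map_natCast,
            map_sum, Complex.conj_conj, Function.comp_apply, Subgroup.coe_subtype, hok rfl]
        rw [hd, show a (Linear.conjChar φ) = a φ by exact_mod_cast he]
      refine Finset.sum_involution (fun φ _ => Linear.conjChar φ) (fun φ _ => ?_) (fun φ _ hne => ?_)
        (fun φ _ => Finset.mem_univ _) (fun φ _ => Linear.conjChar_conjChar φ)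
      · rw [hinv, ← two_mul, show (2 : ZMod 2) = 0 from rfl, zero_mul]
      · intro heq
        apply hne
        rw [ZMod.natCast_eq_zero_iff]
        by_contra h
        apply hcon φ h
        intro _ x
        rw [← Linear.conjChar_apply, heq]
  have hd1 : deg φ = 1 := by
    obtain ⟨d, -, hdd, hd⟩ := Degree.exists_degree_dvd φ
    obtain ⟨k, hk⟩ := IsPGroup.iff_card.1 P.isPGroup'
    have hdφ : d = deg φ := by
      rw [apply_one_eq_deg] at hd
      exact_mod_cast hd.symm
    obtain ⟨j, -, hj⟩ := (Nat.dvd_prime_pow Nat.prime_two).1 (hk ▸ hdd)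
    rcases j with - | j
    · rw [← hdφ, hj, pow_zero]
    · exact absurd (Dvd.dvd.mul_left (hdφ ▸ hj ▸ dvd_pow_self 2 (Nat.succ_ne_zero j)) _) hφ
  obtain ⟨η, rfl⟩ := exists_lin φ hd1
  refine ⟨η, hφb, a (Linear.linChar η), ?_, ha _⟩
  rw [hd1, mul_one] at hφ
  exact Nat.not_even_iff_odd.1 (fun h => hφ h.two_dvd)

/-- If all odd degree characters are real, a Sylow `2`-subgroup is self-normalizing. -/
theorem normalizer_eq_self (n : ℕ) : ∀ (G : Type u) [Group G] [Fintype G] [Group.IsSolvable G]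
    (P : Sylow 2 G), Nat.card G = n →
    (∀ χ : Cfsg.IrrCharacter G, ¬ 2 ∣ deg χ → ∀ g, conj ((χ : G → ℂ) g) = (χ : G → ℂ) g) →
    Subgroup.normalizer ((P : Subgroup G) : Set G) = (P : Subgroup G) := by
  induction n using Nat.strong_induction_on with
  | _ n ih =>
  intro G _ _ _ P hn hreal
  classical
  haveI : Fact (Nat.Prime 2) := ⟨Nat.prime_two⟩
  by_cases hbot : (⊥ : Subgroup G) = ⊤
  · haveI : Subsingleton G := ⟨fun a c => by
      have ha : a ∈ (⊥ : Subgroup G) := hbot ▸ Subgroup.mem_top a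
      have hc : c ∈ (⊥ : Subgroup G) := hbot ▸ Subgroup.mem_top c
      rw [Subgroup.mem_bot.1 ha, Subgroup.mem_bot.1 hc]⟩
    exact Subsingleton.elim _ _
  obtain ⟨M, q, hM, -, hMne, hq, hpow, hcomm⟩ := exists_layer (⊥ : Subgroup G) hbot
  let π := QuotientGroup.mk' M
  have hπ : Function.Surjective π := QuotientGroup.mk'_surjective M
  have hlt : Nat.card (G ⧸ M) < n := by
    rw [← hn, ← Subgroup.index_eq_card, ← Subgroup.index_bot]
    exact Subgroup.index_strictAnti (bot_lt_iff_ne_bot.2 hMne)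
  haveI : Fintype (G ⧸ M) := Fintype.ofFinite _
  have hih := ih _ hlt (G ⧸ M) (P.mapSurjective hπ) rfl fun χ hχ g => by
    obtain ⟨x, rfl⟩ := hπ g
    refine hreal ⟨(χ : G ⧸ M → ℂ) ∘ π, isIrrCharacter_comp π hπ χ.2⟩ ?_ x
    have : deg (⟨(χ : G ⧸ M → ℂ) ∘ π, isIrrCharacter_comp π hπ χ.2⟩ : Cfsg.IrrCharacter G) =
        deg χ := by
      have h := apply_one_eq_deg
        (⟨(χ : G ⧸ M → ℂ) ∘ π, isIrrCharacter_comp π hπ χ.2⟩ : Cfsg.IrrCharacter G)
      change (χ : G ⧸ M → ℂ) (π 1) = _ at h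
      rw [map_one, apply_one_eq_deg] at h
      exact_mod_cast h.symm
    rwa [this]
  refine le_antisymm (fun g hg => ?_) Subgroup.le_normalizer
  have hgπ : π g ∈ (P : Subgroup G).map π := by
    rw [show ((P : Subgroup G).map π) = ((P.mapSurjective hπ : Sylow 2 (G ⧸ M)) : Subgroup (G ⧸ M))
      from rfl, ← hih]
    refine mem_normalizer_of_conj _ _ ?_
    rintro _ ⟨p, hp, rfl⟩
    refine ⟨g⁻¹ * p * g, ?_, by simp⟩
    have := (Subgroup.mem_normalizer_iff.1 (inv_mem hg) p).1 hp
    rwa [inv_inv] at this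
  obtain ⟨p, hp, hpg⟩ := hgπ
  have hm : p⁻¹ * g ∈ M := by
    rw [← QuotientGroup.eq_one_iff]
    change π (p⁻¹ * g) = 1
    rw [map_mul, map_inv, hpg, inv_mul_cancel]
  suffices h : p⁻¹ * g ∈ (P : Subgroup G) by
    have := mul_mem hp h
    rwa [mul_inv_cancel_left] at this
  have hmN : p⁻¹ * g ∈ Subgroup.normalizer ((P : Subgroup G) : Set G) :=
    mul_mem (inv_mem (Subgroup.le_normalizer hp)) hg
  set m := p⁻¹ * g
  rcases hq.eq_two_or_odd' with h2 | hodd
  · subst h2
    have hmz : IsPGroup 2 (Subgroup.zpowers m) := by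
      obtain ⟨j, -, hj⟩ := (Nat.dvd_prime_pow Nat.prime_two).1
        (orderOf_dvd_of_pow_eq_one (show m ^ 2 ^ 1 = 1 by rw [pow_one]; exact Subgroup.mem_bot.1 (hpow m hm)))
      exact IsPGroup.of_card (by rw [Nat.card_zpowers, hj])
    have h' := hmz.inf_normalizer_sylow P
    exact ((SetLike.ext_iff.1 h' m).1 (Subgroup.mem_inf.2 ⟨Subgroup.mem_zpowers m, hmN⟩)).2
  -- odd `q`: no nontrivial element of `M` centralizes `P`
  have hMP : ∀ x ∈ M, x ∈ (P : Subgroup G) → x = 1 := by
    intro x hxM hxP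
    obtain ⟨k, hk⟩ := P.isPGroup' ⟨x, hxP⟩
    have h3 := pow_gcd_eq_one.2
      ⟨Subgroup.mem_bot.1 (hpow x hxM), (congrArg Subtype.val hk : x ^ 2 ^ k = 1)⟩
    rwa [(Nat.Coprime.pow_right k (Nat.coprime_two_right.2 hodd)).gcd_eq_one, pow_one] at h3
  by_contra hmP
  have hm1 : (⟨m, hm⟩ : M) ≠ 1 := fun h => hmP (by
    rw [show m = 1 from congrArg Subtype.val h]; exact one_mem _)
  have hcent : m ∈ Subgroup.centralizer ((P : Subgroup G) : Set G) := by
    rw [Subgroup.mem_centralizer_iff]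
    intro x hx
    have h1 : m * x * m⁻¹ * x⁻¹ ∈ M := by
      rw [show m * x * m⁻¹ * x⁻¹ = m * (x * m⁻¹ * x⁻¹) by group]
      exact mul_mem hm (hM.conj_mem _ (inv_mem hm) x)
    have h2 : m * x * m⁻¹ * x⁻¹ ∈ (P : Subgroup G) :=
      mul_mem ((Subgroup.mem_normalizer_iff.1 hmN x).1 hx) (inv_mem hx)
    have h3 := hMP _ h1 h2
    rw [mul_inv_eq_one, mul_inv_eq_iff_eq_mul] at h3
    exact h3.symm
  obtain ⟨θ, hθfix, -, hθ1⟩ := exists_fixed_ne_one M (P : Subgroup G) P.isPGroup' hm1 hcent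
  have hcM : ∀ a c : M, a * c = c * a := fun a c => Subtype.ext (by
    have := Subgroup.mem_bot.1 (hcomm a a.2 c c.2)
    rw [mul_inv_eq_one, mul_inv_eq_iff_eq_mul] at this
    exact this)
  have hθd : deg θ = 1 := by
    have h := Linear.degree_eq_one_of_comm hcM θ
    rw [apply_one_eq_deg] at h
    exact_mod_cast h
  obtain ⟨ν, rfl⟩ := exists_lin θ hθd
  have hfix : IsFix (P : Subgroup G) M ν := fun x hx => (conjIrr_eq_iff ν ν x).1 (hθfix x hx)
  -- extend to `M ⊔ P` and induce
  let H : Subgroup G := M ⊔ (P : Subgroup G)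
  obtain ⟨νH, hνH⟩ := glue M H (P : Subgroup G) le_sup_left le_sup_right le_rfl ν 1
    (fun s hs v => by
      have := DFunLike.congr_fun (hfix s hs) v
      rwa [conjHom_apply] at this)
    (fun v s hvs => by
      rw [show v = 1 from Subtype.ext (hMP _ v.2 (hvs ▸ s.2)), map_one]; rfl)
  have hidx : ¬ 2 ∣ H.index := fun h =>
    P.not_dvd_index (h.trans (Subgroup.index_dvd_of_le le_sup_right))
  obtain ⟨χ, hχ, hχodd⟩ := exists_constituent_not_dvd
    (Lib.Induced.Character.isCharacter_indFun H (isCharacter_irr (Linear.linChar νH)))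
    (p := 2) (n := H.index) (by rw [indFun_one, Linear.linChar_apply]; simp) hidx
  rw [frobenius_reciprocity H _ (isClassFunction_irr χ)] at hχ
  have hχM : Cfsg.classInner ((χ : G → ℂ) ∘ M.subtype) (Linear.linChar ν) ≠ 0 := by
    have hc : νH.comp (Subgroup.inclusion (le_sup_left : M ≤ H)) = ν := MonoidHom.ext fun v => by
      rw [MonoidHom.comp_apply, hνH v 1 _ (by simp), map_one, mul_one]
    exact inner_ne_zero_comp (Subgroup.inclusion (le_sup_left : M ≤ H))
      (isCharacter_comp H.subtype (isCharacter_irr χ)) (Linear.linChar νH) (isCharacter_irr _)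
      (Lib.Clifford.Basic.classInner_ne_zero_symm hχ)
      (by rw [linChar_comp, hc, classInner_self_irr]; exact one_ne_zero)
  apply hθ1
  refine Subtype.ext (funext fun v => ?_)
  rw [oneChar_apply, Linear.linChar_apply]
  have h2 := (sq_eq_one_iff_real ν v).2 (real_of_fixed P χ (hreal χ hχodd) ν hfix hχM v)
  have hv : v ^ q = 1 := Subtype.ext (by simpa using Subgroup.mem_bot.1 (hpow v v.2))
  rw [eq_one_of_two_odd (z := ν v) (k := 1) hodd (by rwa [pow_one]) (by rw [← map_pow, hv, map_one]),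
    Units.val_one]

/-- The derived subgroup of a `2`-group is its Frattini subgroup exactly when every linear
character is real. -/
theorem commutator_eq_frattini_iff {A : Type u} [Group A] [Finite A] (hA : IsPGroup 2 A) :
    commutator A = frattini A ↔ ∀ η : A →* ℂˣ, ∀ x, η x ^ 2 = 1 := by
  haveI : Fact (Nat.Prime 2) := ⟨Nat.prime_two⟩
  constructor
  · intro h η x
    rw [← map_pow]
    have hx : x ^ 2 ∈ commutator A := by
      rw [h, Lib.PGroups.frattini_eq_sup (p := 2) hA]
      exact Subgroup.mem_sup_right (Subgroup.subset_closure ⟨x, rfl⟩)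
    exact Abelianization.commutator_subset_ker η hx
  · intro h
    refine le_antisymm (Lib.PGroups.commutator_le_frattini hA)
      (Lib.PGroups.frattini_le_of_pow_commutator (p := 2) _ (fun x => ?_) le_rfl)
    by_contra hx
    have hne : Abelianization.of (x ^ 2) ≠ 1 := fun h1 => hx (by
      rw [← Abelianization.ker_of A]; exact h1)
    obtain ⟨φ, hφ⟩ := CommGroup.exists_apply_ne_one_of_hasEnoughRootsOfUnity (Abelianization A) ℂ hne
    apply hφ
    have := h (φ.comp Abelianization.of) x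
    rw [← map_pow] at this
    exact this

end Cfsg.Agent.Lib.BC78.RealOdd
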