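import Cfsg.Agent.Lib.BC78.RealOdd.Lin

/-!
# Constituents, conjugation and the Clifford correspondence over a linear character
-/

set_option autoImplicit false

namespace Cfsg.Agent.Lib.BC78.RealOdd

open scoped ComplexConjugate Pointwise
open Cfsg.Agent.Lib.Induced.Basic Cfsg.Agent.Lib.Characters.Basic Cfsg.Agent.Lib.Characters
open Cfsg.Agent.Lib.BC78.CoprimeFix Cfsg.Agent.Lib.BC78.Clifford

universe u

/-- The instances used for all subgroups in this development. -/
noncomputable scoped instance (priority := 10000) subFintype {G : Type u} [Group G] [Finite G]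
    (S : Subgroup G) : Fintype S := Fintype.ofFinite S

theorem inner_equiv {A B : Type u} [Group A] [Group B] [Fintype A] [Fintype B]
    (f : A ≃* B) (φ ψ : B → ℂ) :
    Cfsg.classInner (φ ∘ f) (ψ ∘ f) = Cfsg.classInner φ ψ := by
  simp only [Cfsg.classInner, Function.comp_apply, Nat.card_congr f.toEquiv]
  congr 1
  exact Fintype.sum_equiv f.toEquiv _ _ fun a => rfl

theorem exists_mid {H K : Type u} [Group H] [Group K] [Fintype H] [Fintype K] (f : K →* H)
    {χ : H → ℂ} (hχ : Cfsg.IsCharacter H χ) {φ : K → ℂ}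
    (h : Cfsg.classInner (χ ∘ f) φ ≠ 0) :
    ∃ ψ : Cfsg.IrrCharacter H, Cfsg.classInner χ ψ ≠ 0 ∧
      Cfsg.classInner ((ψ : H → ℂ) ∘ f) φ ≠ 0 := by
  by_contra hcon
  push Not at hcon
  apply h
  haveI := Fintype.ofFinite (Cfsg.IrrCharacter H)
  have hd := character_eq_finsum hχ
  rw [finsum_eq_sum_of_fintype] at hd
  have e : χ ∘ f = ∑ ψ : Cfsg.IrrCharacter H, Cfsg.classInner χ ψ • ((ψ : H → ℂ) ∘ f) := by
    funext k
    have := congrFun hd (f k)
    simpa [Finset.sum_apply] using this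
  rw [e, classInner_sum_left]
  refine Finset.sum_eq_zero fun ψ _ => ?_
  rw [classInner_smul_left]
  by_cases h0 : Cfsg.classInner χ ψ = 0
  · rw [h0, zero_mul]
  · rw [hcon ψ h0, mul_zero]

variable {G : Type u} [Group G]

/-- The conjugate of a homomorphism. -/
def conjHom (W : Subgroup G) [W.Normal] (ν : W →* ℂˣ) (g : G) : W →* ℂˣ :=
  ν.comp (MulAut.conjNormal g).toMonoidHom

theorem conjHom_apply (W : Subgroup G) [hW : W.Normal] (ν : W →* ℂˣ) (g : G) (w : W) :
    conjHom W ν g w = ν ⟨g * w * g⁻¹, hW.conj_mem w w.2 g⟩ :=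
  congrArg ν (Subtype.ext (MulAut.conjNormal_apply g w))

theorem linChar_conjHom [Finite G] (W : Subgroup G) [W.Normal] (ν : W →* ℂˣ) (g : G) :
    Linear.linChar (conjHom W ν g) = conjIrr W (Linear.linChar ν) g :=
  Subtype.ext (funext fun w => congrArg Units.val (conjHom_apply W ν g w))

theorem isTwo_conjHom (W : Subgroup G) [W.Normal] {ν : W →* ℂˣ} (h : IsTwo ν) (g : G) :
    IsTwo (conjHom W ν g) := fun _ => h _

/-- Fixed by a subgroup. -/
def IsFix (P V : Subgroup G) [V.Normal] (μ : V →* ℂˣ) : Prop := ∀ p ∈ P, conjHom V μ p = μ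

theorem conjIrr_eq_iff [Finite G] {W : Subgroup G} [W.Normal] (ν ν' : W →* ℂˣ) (g : G) :
    conjIrr W (Linear.linChar ν) g = Linear.linChar ν' ↔ conjHom W ν g = ν' := by
  rw [← linChar_conjHom]
  exact ⟨fun h => Linear.linChar_injective h, fun h => by rw [h]⟩

theorem mem_normalizer_of_conj [Finite G] (P : Subgroup G) (n : G)
    (h : ∀ p ∈ P, n⁻¹ * p * n ∈ P) : n ∈ Subgroup.normalizer (P : Set G) := by
  have hle : P.map (MulAut.conj n⁻¹).toMonoidHom ≤ P := by
    rintro _ ⟨p, hp, rfl⟩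
    simpa using h p hp
  have heq := Subgroup.eq_of_le_of_card_ge hle
    (Nat.card_congr (P.equivMapOfInjective _ (MulAut.conj n⁻¹).injective).toEquiv).le
  have hinv : n⁻¹ ∈ Subgroup.normalizer (P : Set G) := by
    rw [Subgroup.mem_normalizer_iff]
    intro p
    refine ⟨fun hp => by simpa using h p hp, fun hp => ?_⟩
    rw [← heq] at hp
    obtain ⟨q, hq, hqe⟩ := hp
    have : q = p := by simpa using hqe
    exact this ▸ hq
  simpa using inv_mem hinv

/-- Sylow's theorem inside a subgroup. -/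
theorem exists_mem_normalizer_of_le [Finite G] {p : ℕ} [Fact p.Prime] (P : Sylow p G)
    (I : Subgroup G) (hPI : (P : Subgroup G) ≤ I) (g : G)
    (hg : ∀ x ∈ (P : Subgroup G), g⁻¹ * x * g ∈ I) :
    ∃ t ∈ I, g * t⁻¹ ∈ Subgroup.normalizer ((P : Subgroup G) : Set G) := by
  let Q : Sylow p G := g⁻¹ • P
  have hQmem : ∀ x ∈ (P : Subgroup G), g⁻¹ * x * g ∈ (Q : Subgroup G) := fun x hx => by
    rw [Sylow.coe_subgroup_smul, Subgroup.mem_pointwise_smul_iff_inv_smul_mem, ← map_inv,
      MulAut.smul_def, MulAut.conj_apply, inv_inv]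
    simpa [mul_assoc] using hx
  have hQI : (Q : Subgroup G) ≤ I := fun y hy => by
    rw [Sylow.coe_subgroup_smul, Subgroup.mem_pointwise_smul_iff_inv_smul_mem, ← map_inv,
      MulAut.smul_def, MulAut.conj_apply, inv_inv] at hy
    simpa [mul_assoc] using hg _ hy
  obtain ⟨t, ht⟩ := MulAction.exists_smul_eq I (Q.subtype hQI) (P.subtype hPI)
  refine ⟨t, t.2, mem_normalizer_of_conj _ _ fun x hx => ?_⟩
  have hy : (⟨g⁻¹ * x * g, hg x hx⟩ : I) ∈ (Q.subtype hQI : Subgroup I) := hQmem x hx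
  have h2 : t * ⟨g⁻¹ * x * g, hg x hx⟩ * t⁻¹ ∈ (P.subtype hPI : Subgroup I) := by
    rw [← ht, Sylow.coe_subgroup_smul, Subgroup.mem_pointwise_smul_iff_inv_smul_mem, ← map_inv,
      MulAut.smul_def, MulAut.conj_apply, inv_inv]
    simpa [mul_assoc] using hy
  have h3 : ((t * ⟨g⁻¹ * x * g, hg x hx⟩ * t⁻¹ : I) : G) ∈ (P : Subgroup G) := h2
  simpa [mul_assoc] using h3

/-- Fixed characters conjugate in the group are conjugate in the normalizer. -/
theorem exists_normalizer_conj [Finite G] {p : ℕ} [Fact p.Prime] (P : Sylow p G) {W : Subgroup G}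
    [W.Normal] (θ θ' : Cfsg.IrrCharacter W) (hθ : IsFixed W (P : Subgroup G) θ)
    (hθ' : IsFixed W (P : Subgroup G) θ') {g : G} (hg : conjIrr W θ g = θ') :
    ∃ n ∈ Subgroup.normalizer ((P : Subgroup G) : Set G), conjIrr W θ n = θ' := by
  let I : Subgroup G :=
    { carrier := {x | conjIrr W θ' x = θ'}
      one_mem' := conjIrr_one W θ'
      mul_mem' := fun {a b} ha hb => by
        change conjIrr W θ' (a * b) = θ'
        rw [← conjIrr_conjIrr, ha, hb]
      inv_mem' := fun {a} ha => by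
        change conjIrr W θ' a⁻¹ = θ'
        conv_lhs => rw [← ha]
        rw [conjIrr_conjIrr, mul_inv_cancel, conjIrr_one] }
  obtain ⟨t, ht, hn⟩ := exists_mem_normalizer_of_le P I hθ' g fun x hx => by
    change conjIrr W θ' (g⁻¹ * x * g) = θ'
    conv_lhs => rw [← hg]
    rw [conjIrr_conjIrr, ← mul_assoc, mul_inv_cancel_left, ← conjIrr_conjIrr, hθ x hx, hg]
  refine ⟨_, hn, ?_⟩
  rw [← conjIrr_conjIrr, hg]
  exact I.inv_mem ht

/-- A fixed linear constituent of a real character is real. -/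
theorem real_of_fixed [Fintype G] (P : Sylow 2 G) {W : Subgroup G} [W.Normal]
    (χ : Cfsg.IrrCharacter G) (hreal : ∀ g, conj ((χ : G → ℂ) g) = (χ : G → ℂ) g) (θ : W →* ℂˣ)
    (hfix : IsFix (P : Subgroup G) W θ)
    (h : Cfsg.classInner ((χ : G → ℂ) ∘ W.subtype) (Linear.linChar θ) ≠ 0) (w : W) :
    conj ((θ w : ℂˣ) : ℂ) = ((θ w : ℂˣ) : ℂ) := by
  haveI : Fact (Nat.Prime 2) := ⟨Nat.prime_two⟩
  set L := Linear.linChar θ with hL
  set Lb := Linear.conjChar L with hLb
  have hb : Cfsg.classInner (fun n : W => (χ : G → ℂ) n) Lb ≠ 0 := by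
    intro h0
    apply h
    have : Cfsg.classInner ((χ : G → ℂ) ∘ W.subtype) (L : W → ℂ) =
        conj (Cfsg.classInner (fun n : W => (χ : G → ℂ) n) (Lb : W → ℂ)) := by
      simp only [Cfsg.classInner, hLb, Linear.conjChar_apply, map_mul, map_inv₀, map_natCast,
        map_sum, Complex.conj_conj, hreal, Function.comp_apply, Subgroup.coe_subtype]
    rw [this, h0, map_zero]
  have hfixL : IsFixed W (P : Subgroup G) L := fun p hp => (conjIrr_eq_iff θ θ p).2 (hfix p hp)
  have hcj : ∀ g : G, conjIrr W Lb g = Linear.conjChar (conjIrr W L g) := fun g => rfl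
  have hfixLb : IsFixed W (P : Subgroup G) Lb := fun p hp => by rw [hcj, hfixL p hp]
  obtain ⟨g, hg⟩ := exists_conj_eq W χ L Lb h hb
  obtain ⟨n, hn, hne⟩ := exists_normalizer_conj P L Lb hfixL hfixLb hg
  have h2 : conjIrr W L (n * n) = L := by
    rw [← conjIrr_conjIrr, hne, hcj, hne, hLb, Linear.conjChar_conjChar]
  obtain ⟨a, m, hm, ham⟩ := Nat.exists_eq_two_pow_mul_odd (orderOf_pos n).ne'
  have hp2 : IsPGroup 2 (Subgroup.zpowers (n ^ m)) := by
    obtain ⟨j, -, hj⟩ := (Nat.dvd_prime_pow Nat.prime_two).1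
      (orderOf_dvd_of_pow_eq_one (show (n ^ m) ^ 2 ^ a = 1 by
        rw [← pow_mul, mul_comm, ← ham, pow_orderOf_eq_one]))
    exact IsPGroup.of_card (by rw [Nat.card_zpowers, hj])
  have hnP : n ^ m ∈ (P : Subgroup G) := by
    have h' := hp2.inf_normalizer_sylow P
    have : n ^ m ∈ Subgroup.zpowers (n ^ m) ⊓ Subgroup.normalizer ((P : Subgroup G) : Set G) :=
      ⟨Subgroup.mem_zpowers _, pow_mem hn m⟩
    exact ((SetLike.ext_iff.1 h' _).1 this).2
  obtain ⟨i, rfl⟩ := hm
  have hi : ∀ j, conjIrr W L ((n * n) ^ j) = L := by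
    intro j
    induction j with
    | zero => rw [pow_zero, conjIrr_one]
    | succ j ih => rw [pow_succ, ← conjIrr_conjIrr, ih, h2]
  have heq : L = Lb := by
    have h3 := hfixL _ hnP
    rw [show n ^ (2 * i + 1) = (n * n) ^ i * n by rw [pow_succ, pow_mul, sq],
      ← conjIrr_conjIrr, hi, hne] at h3
    exact h3.symm
  have := congrFun (congrArg Subtype.val heq) w
  rw [hLb, Linear.conjChar_apply, hL, Linear.linChar_apply] at this
  exact this.symm

/-- The Clifford correspondent over a linear character. -/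
theorem correspondent [Fintype G] {V : Subgroup G} [V.Normal] (μ : V →* ℂˣ) (T : Subgroup G)
    (hT : ∀ g, g ∈ T ↔ conjHom V μ g = μ) (hVT : V ≤ T) (χ : Cfsg.IrrCharacter G)
    (h : Cfsg.classInner ((χ : G → ℂ) ∘ V.subtype) (Linear.linChar μ) ≠ 0) :
    ∃ ψ : Cfsg.IrrCharacter T, Cfsg.indFun T (ψ : T → ℂ) = χ ∧
      Cfsg.classInner ((ψ : T → ℂ) ∘ Subgroup.inclusion hVT) (Linear.linChar μ) ≠ 0 ∧
      Cfsg.classInner ((χ : G → ℂ) ∘ T.subtype) ψ = 1 ∧
      ∀ φ : Cfsg.IrrCharacter T, Cfsg.classInner ((χ : G → ℂ) ∘ T.subtype) φ ≠ 0 →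
        Cfsg.classInner ((φ : T → ℂ) ∘ Subgroup.inclusion hVT) (Linear.linChar μ) ≠ 0 → φ = ψ := by
  classical
  have hTi : T = Lib.Clifford.Basic.inertia V (Linear.linChar μ : V → ℂ) := by
    ext g
    rw [hT, Lib.Clifford.Basic.mem_inertia]
    constructor
    · intro h
      funext v
      rw [Lib.Clifford.Basic.conjC_apply, Linear.linChar_apply, Linear.linChar_apply]
      have := DFunLike.congr_fun h v
      rw [conjHom_apply] at this
      rw [this]
    · intro h
      refine MonoidHom.ext fun v => Units.ext ?_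
      rw [conjHom_apply]
      exact congrFun h v
  obtain ⟨ψ, hψ, hind, hres, hne⟩ :=
    Lib.Clifford.Basic.exists_correspondent V χ.2 (Linear.linChar μ) h T hTi hVT
  have hψ1 : Cfsg.classInner ((χ : G → ℂ) ∘ T.subtype) ψ = 1 := by
    have := frobenius_reciprocity T ψ (isClassFunction_irr χ)
    rw [hind, classInner_self_irr] at this
    rw [← classInner_conj_symm]
    exact (congrArg conj this.symm).trans (map_one _)
  have hin : Cfsg.classInner (ψ ∘ Subgroup.inclusion hVT) (Linear.linChar μ) =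
      Cfsg.classInner ((χ : G → ℂ) ∘ V.subtype) (Linear.linChar μ) := by
    rw [show ψ ∘ Subgroup.inclusion hVT = _ from hres, classInner_smul_left, classInner_self_irr,
      mul_one]
    rfl
  refine ⟨⟨ψ, hψ⟩, hind, hin ▸ h, hψ1, fun φ h1 h2 => ?_⟩
  by_contra hne'
  have hT' := isCharacter_comp T.subtype (isCharacter_irr χ)
  obtain ⟨m, r, hr, hm, hr0, hdec⟩ := Lib.Clifford.Basic.exists_eq_nsmul_add hT' ⟨ψ, hψ⟩
  have hm1 : m = 1 := by
    have : (m : ℂ) = 1 := hm.symm.trans hψ1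
    exact_mod_cast this
  have hrφ : Cfsg.classInner r φ ≠ 0 := by
    rw [hdec, classInner_add_left, Lib.Clifford.Basic.classInner_nsmul_left,
      classInner_irr_of_ne (Ne.symm hne'), mul_zero, zero_add] at h1
    exact h1
  apply inner_ne_zero_comp (Subgroup.inclusion hVT) hr φ (isCharacter_irr _) hrφ h2
  have e : (χ : G → ℂ) ∘ V.subtype = (m • ψ + r) ∘ Subgroup.inclusion hVT := by
    funext v
    exact congrFun hdec (Subgroup.inclusion hVT v)
  have e2 : (m • ψ + r) ∘ Subgroup.inclusion hVT =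
      ψ ∘ Subgroup.inclusion hVT + r ∘ Subgroup.inclusion hVT := by
    funext v; simp [hm1]
  rw [e, e2, classInner_add_left] at hin
  exact add_eq_left.1 hin.symm

end Cfsg.Agent.Lib.BC78.RealOdd
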